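import Cfsg.Agent.Lib.Char.Basic
import Cfsg.Agent.Lib.Char.Complete
import Cfsg.Agent.Lib.Char.Real
import Cfsg.Agent.Lib.Char.Indicator
import Cfsg.Agent.Lib.Char.Extension
import Cfsg.Agent.Lib.CharDegree.Basic
import Mathlib.LinearAlgebra.Trace
import Mathlib.LinearAlgebra.PID

/-!
# Multiplicities and exterior squares of characters of perfect groups

`mult Φ ψ` is the multiplicity of `ψ` in `Φ`. `alt χ` is the exterior square of `χ`; for a perfect
group it is `conj χ` in degree three, and self-dual in degree four.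
-/

set_option autoImplicit false
set_option linter.all false

open scoped Classical ComplexConjugate

namespace CfsgLib.Char.MinusFour

open Module CfsgLib.Char CfsgLib.CharDegree

variable {G : Type*} [Group G] [Fintype G]

/-- The degree of an irreducible character. -/
noncomputable abbrev deg (χ : Cfsg.IrrCharacter G) : ℕ := Cfsg.charDegree (χ : G → ℂ)

/-- Multiplicity of an irreducible character in a character. -/
noncomputable def mult (Φ : G → ℂ) (ψ : Cfsg.IrrCharacter G) : ℕ :=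
  ⌊(Cfsg.classInner Φ (ψ : G → ℂ)).re⌋₊

theorem cast_mult {Φ : G → ℂ} (h : Cfsg.IsCharacter G Φ) (ψ : Cfsg.IrrCharacter G) :
    (mult Φ ψ : ℂ) = Cfsg.classInner Φ (ψ : G → ℂ) := by
  obtain ⟨n, hn⟩ := IsChar.classInner_eq_natCast h (IsIrr.isCharacter ψ.2)
  simp [mult, hn]

theorem mult_eq_of_inner {Φ : G → ℂ} {ψ : Cfsg.IrrCharacter G} {n : ℕ}
    (h : Cfsg.classInner Φ (ψ : G → ℂ) = n) : mult Φ ψ = n := by simp [mult, h]

theorem eq_sum_mult [Fintype (Cfsg.IrrCharacter G)] {Φ : G → ℂ} (h : Cfsg.IsCharacter G Φ) (g : G) :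
    Φ g = ∑ ψ : Cfsg.IrrCharacter G, (mult Φ ψ : ℂ) * (ψ : G → ℂ) g := by
  rw [classFunction_apply_eq_sum (IsChar.isClassFunction h) g]
  exact Finset.sum_congr rfl fun ψ _ => by rw [cast_mult h]

theorem inner_eq_sum_mult [Fintype (Cfsg.IrrCharacter G)] {Φ Ψ : G → ℂ} (h : Cfsg.IsCharacter G Φ)
    (h' : Cfsg.IsCharacter G Ψ) :
    Cfsg.classInner Φ Ψ = ((∑ ψ : Cfsg.IrrCharacter G, mult Φ ψ * mult Ψ ψ : ℕ) : ℂ) := by
  have hΦ : Φ = ∑ ψ : Cfsg.IrrCharacter G, (mult Φ ψ : ℂ) • (ψ : G → ℂ) :=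
    funext fun g => by rw [eq_sum_mult h g, Finset.sum_apply]; rfl
  conv_lhs => rw [hΦ]
  rw [classInner_sum_left, Nat.cast_sum]
  refine Finset.sum_congr rfl fun ψ _ => ?_
  rw [classInner_smul_left, ← classInner_conj_symm, ← cast_mult h', map_natCast, Nat.cast_mul]

/-- Moving factors across the inner product. -/
theorem inner_mul_shift (a b c d : G → ℂ) :
    Cfsg.classInner (a * b) (c * d) =
      Cfsg.classInner (a * fun g => conj (c g)) ((fun g => conj (b g)) * d) := by
  simp only [Cfsg.classInner, Pi.mul_apply, map_mul, Complex.conj_conj]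
  congr 1
  exact Finset.sum_congr rfl fun g _ => by ring

theorem inner_one_right (a b : G → ℂ) :
    Cfsg.classInner (a * b) (trivChar G : G → ℂ) = Cfsg.classInner a (fun g => conj (b g)) := by
  simp only [Cfsg.classInner, Pi.mul_apply, trivChar_apply, map_one, mul_one, Complex.conj_conj]

theorem inner_shift_one (a b c : G → ℂ) :
    Cfsg.classInner (a * b) c = Cfsg.classInner a ((fun g => conj (b g)) * c) := by
  simp only [Cfsg.classInner, Pi.mul_apply, map_mul, Complex.conj_conj]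
  congr 1
  exact Finset.sum_congr rfl fun g _ => by ring

theorem isChar_prod (χ ψ : Cfsg.IrrCharacter G) :
    Cfsg.IsCharacter G ((χ : G → ℂ) * (ψ : G → ℂ)) :=
  IsChar.mul (IsIrr.isCharacter χ.2) (IsIrr.isCharacter ψ.2)

theorem mult_prod_triv (χ ψ : Cfsg.IrrCharacter G) :
    mult ((χ : G → ℂ) * (ψ : G → ℂ)) (trivChar G) = if χ = conjIrr ψ then 1 else 0 := by
  apply mult_eq_of_inner
  rw [inner_one_right]
  refine (classInner_irr χ (conjIrr ψ)).trans ?_
  split_ifs <;> simp

theorem apply_one_mem_kernel {Φ : G → ℂ} (h : Cfsg.IsCharacter G Φ) {ψ : Cfsg.IrrCharacter G}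
    (hψ : mult Φ ψ ≠ 0) {x : G} (hx : Φ x = Φ 1) : (ψ : G → ℂ) x = (ψ : G → ℂ) 1 := by
  haveI := Fintype.ofFinite (Cfsg.IrrCharacter G)
  have hle : ∀ φ : Cfsg.IrrCharacter G, ((φ : G → ℂ) x).re ≤ deg φ := fun φ => by
    refine (Complex.re_le_norm _).trans ((IsChar.norm_le (IsIrr.isCharacter φ.2) x).trans (le_of_eq ?_))
    rw [← cast_irrDegree, Complex.norm_natCast]
  have h1 := congrArg Complex.re ((eq_sum_mult h x).symm.trans (hx.trans (eq_sum_mult h 1)))
  simp only [Complex.re_sum, Complex.mul_re, Complex.natCast_re, Complex.natCast_im, zero_mul,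
    sub_zero] at h1
  simp only [← cast_irrDegree, Complex.natCast_re] at h1
  have h2 : ((ψ : G → ℂ) x).re = deg ψ := by
    have := (Finset.sum_eq_sum_iff_of_le (fun φ _ => mul_le_mul_of_nonneg_left (hle φ)
      (Nat.cast_nonneg (mult Φ φ)))).1 h1 ψ (Finset.mem_univ ψ)
    exact mul_left_cancel₀ (Nat.cast_ne_zero.2 hψ) this
  have h3 : ‖(ψ : G → ℂ) x‖ ≤ deg ψ := by
    refine (IsChar.norm_le (IsIrr.isCharacter ψ.2) x).trans (le_of_eq ?_)
    rw [← cast_irrDegree, Complex.norm_natCast]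
  have h4 : ((ψ : G → ℂ) x).im = 0 := by
    have e := Complex.normSq_apply ((ψ : G → ℂ) x)
    rw [Complex.normSq_eq_norm_sq, h2] at e
    have : ‖(ψ : G → ℂ) x‖ ^ 2 ≤ (deg ψ : ℝ) ^ 2 := pow_le_pow_left₀ (norm_nonneg _) h3 2
    nlinarith
  rw [← cast_irrDegree]
  exact Complex.ext (by simpa using h2) (by simpa using h4)

/-- The exterior square of a class function. -/
noncomputable def alt (χ : G → ℂ) : G → ℂ := fun g => (χ g * χ g - χ (g * g)) / 2

section Rep

variable {V : Type*} [AddCommGroup V] [Module ℂ V] [FiniteDimensional ℂ V]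

theorem isCharacter_of_idem (T : Representation ℂ G V) (P : Module.End ℂ V) (hP : P * P = P)
    (hc : ∀ g, T g * P = P * T g) :
    Cfsg.IsCharacter G fun g => LinearMap.trace ℂ V (T g * P) := by
  let S : Subrepresentation T :=
    ⟨LinearMap.range P, fun g v hv => by
      obtain ⟨w, rfl⟩ := hv
      exact ⟨T g w, (LinearMap.congr_fun (hc g) w).symm⟩⟩
  have h : S.toRepresentation.character = fun g => LinearMap.trace ℂ V (T g * P) := funext fun g => by
    have hmem : ∀ x, (T g * P) x ∈ LinearMap.range P := fun x =>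
      ⟨T g x, (LinearMap.congr_fun (hc g) x).symm⟩
    rw [Representation.character,
      ← LinearMap.trace_restrict_eq_of_forall_mem (LinearMap.range P) (T g * P) hmem]
    congr 1
    refine LinearMap.ext fun x => Subtype.ext ?_
    obtain ⟨w, hw⟩ := x.2
    have hPx : P (x : V) = (x : V) := by rw [← hw]; exact LinearMap.congr_fun hP w
    show T g (x : V) = T g (P (x : V))
    rw [hPx]
  exact h ▸ isCharacter_rep S.toRepresentation

end Rep

theorem isCharacter_alt {χ : G → ℂ} (h : Cfsg.IsCharacter G χ) : Cfsg.IsCharacter G (alt χ) := by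
  obtain ⟨n, ρ, rfl⟩ := h
  have hττ : tswap (Fin n → ℂ) * tswap (Fin n → ℂ) = 1 := TensorProduct.ext' fun x y => by
    simp [tswap]
  have hcomm : ∀ g, tswap (Fin n → ℂ) * ρ.tprod ρ g = ρ.tprod ρ g * tswap (Fin n → ℂ) := fun g =>
    TensorProduct.ext' fun x y => by simp [tswap]
  set τ := tswap (Fin n → ℂ)
  have h := isCharacter_of_idem (ρ.tprod ρ) ((2 : ℂ)⁻¹ • (1 : Module.End ℂ _) + (-(2 : ℂ)⁻¹) • τ)
    (TensorProduct.ext' fun x y => by
      simp [τ, tswap]
      match_scalars <;> norm_num) (fun g => TensorProduct.ext' fun x y => by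
      simp [τ, tswap])
  convert h using 1
  funext g
  have e1 : LinearMap.trace ℂ _ (ρ.tprod ρ g) = ρ.character g * ρ.character g :=
    congrFun (Representation.char_tensor ρ ρ) g
  have e2 : ρ.tprod ρ g * ((2 : ℂ)⁻¹ • (1 : Module.End ℂ _) + (-(2 : ℂ)⁻¹) • τ) =
      (2 : ℂ)⁻¹ • ρ.tprod ρ g + (-(2 : ℂ)⁻¹) • (ρ.tprod ρ g * τ) := by
    rw [mul_add, mul_smul_comm, mul_smul_comm, mul_one]
  rw [e2, map_add, map_smul, map_smul, e1, trace_tprod_tswap, smul_eq_mul, smul_eq_mul]
  simp only [alt]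
  ring

/-- The symmetric square of a class function. -/
noncomputable def sym (χ : G → ℂ) : G → ℂ := fun g => (χ g * χ g + χ (g * g)) / 2

theorem isCharacter_sym {χ : G → ℂ} (h : Cfsg.IsCharacter G χ) : Cfsg.IsCharacter G (sym χ) := by
  obtain ⟨n, ρ, rfl⟩ := h
  have hττ : tswap (Fin n → ℂ) * tswap (Fin n → ℂ) = 1 := TensorProduct.ext' fun x y => by
    simp [tswap]
  have hcomm : ∀ g, tswap (Fin n → ℂ) * ρ.tprod ρ g = ρ.tprod ρ g * tswap (Fin n → ℂ) := fun g =>
    TensorProduct.ext' fun x y => by simp [tswap]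
  set τ := tswap (Fin n → ℂ)
  have h := isCharacter_of_idem (ρ.tprod ρ) ((2 : ℂ)⁻¹ • (1 : Module.End ℂ _) + ((2 : ℂ)⁻¹) • τ)
    (TensorProduct.ext' fun x y => by
      simp [τ, tswap]
      match_scalars <;> norm_num) (fun g => TensorProduct.ext' fun x y => by
      simp [τ, tswap])
  convert h using 1
  funext g
  have e1 : LinearMap.trace ℂ _ (ρ.tprod ρ g) = ρ.character g * ρ.character g :=
    congrFun (Representation.char_tensor ρ ρ) g
  have e2 : ρ.tprod ρ g * ((2 : ℂ)⁻¹ • (1 : Module.End ℂ _) + ((2 : ℂ)⁻¹) • τ) =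
      (2 : ℂ)⁻¹ • ρ.tprod ρ g + ((2 : ℂ)⁻¹) • (ρ.tprod ρ g * τ) := by
    rw [mul_add, mul_smul_comm, mul_smul_comm, mul_one]
  rw [e2, map_add, map_smul, map_smul, e1, trace_tprod_tswap, smul_eq_mul, smul_eq_mul]
  simp only [sym]
  ring

/-- Eigenvalues with product one. -/
theorem exists_eigen (hperf : commutator G = ⊤) (χ : Cfsg.IrrCharacter G) (g : G) {n : ℕ}
    (hn : deg χ = n) :
    ∃ ε : Fin n → ℂ, (∏ i, ε i = 1) ∧ (∀ i, ‖ε i‖ = 1) ∧
      (∀ k : ℕ, (χ : G → ℂ) (g ^ k) = ∑ i, ε i ^ k) ∧ (χ : G → ℂ) g⁻¹ = ∑ i, (ε i)⁻¹ := by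
  obtain ⟨m, ρ, hρ, hρc, hm⟩ := exists_rep χ
  obtain rfl : m = n := hm.trans hn
  obtain ⟨b, ε, hb, hε⟩ := CfsgLib.Char.exists_eigenbasis ρ g
  have htr : ∀ (h : G) (δ : Fin (finrank ℂ (Fin m → ℂ)) → ℂ),
      (∀ i, ρ h (b i) = δ i • b i) → ρ.character h = ∑ i, δ i := by
    intro h δ hδ
    rw [Representation.character, LinearMap.trace_eq_matrix_trace ℂ b, Matrix.trace]
    refine Finset.sum_congr rfl fun i _ => ?_
    simp [Matrix.diag, LinearMap.toMatrix_apply, hδ]
  have hdet : ∏ i, ε i = 1 := by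
    have h1 : CfsgLib.CharExt.detHom ρ g = 1 := by
      have hle : commutator G ≤ (CfsgLib.CharExt.detHom ρ).ker :=
        Abelianization.commutator_subset_ker _
      exact MonoidHom.mem_ker.1 (hle (by rw [hperf]; exact Subgroup.mem_top g))
    have h2 := congrArg Units.val h1
    rw [CfsgLib.CharExt.detHom_apply, ← LinearMap.det_toMatrix b] at h2
    rw [show LinearMap.toMatrix b b (ρ g) = Matrix.diagonal ε from Matrix.ext fun i j => by
      simp only [LinearMap.toMatrix_apply, hb, map_smul, Finsupp.smul_apply, Basis.repr_self,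
        Matrix.diagonal_apply, Finsupp.single_apply, smul_eq_mul, mul_ite, mul_one, mul_zero]
      by_cases hij : i = j
      · subst hij; simp
      · simp [hij, Ne.symm hij], Matrix.det_diagonal] at h2
    simpa using h2
  have hne : ∀ i, ε i ≠ 0 := fun i h => by
    have := hε i
    rw [h, zero_pow (orderOf_pos g).ne'] at this
    exact zero_ne_one this
  let e : Fin m ≃ Fin (finrank ℂ (Fin m → ℂ)) := finCongr (finrank_fin_fun ℂ).symm
  refine ⟨fun i => ε (e i), (Fintype.prod_equiv e _ _ fun _ => rfl).trans hdet, fun i =>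
    Complex.norm_eq_one_of_pow_eq_one (hε _) (orderOf_pos g).ne', fun k => ?_, ?_⟩
  · rw [← hρc, htr (g ^ k) (fun i => ε i ^ k)]
    · exact (Fintype.sum_equiv e _ _ fun _ => rfl).symm
    intro i
    induction k with
    | zero => simp
    | succ k ih => rw [pow_succ', map_mul, Module.End.mul_apply, ih, map_smul, hb, smul_smul, pow_succ]
  · rw [← hρc, htr g⁻¹ (fun i => (ε i)⁻¹)]
    · exact (Fintype.sum_equiv e _ _ fun _ => rfl).symm
    intro i
    apply (ρ.apply_bijective g).1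
    rw [map_smul, hb, smul_smul, inv_mul_cancel₀ (hne i), one_smul, ρ.self_inv_apply]

/-- In degree three the exterior square is the dual. -/
theorem alt_eq_conj (hperf : commutator G = ⊤) (χ : Cfsg.IrrCharacter G) (h3 : deg χ = 3) (g : G) :
    alt (χ : G → ℂ) g = conj ((χ : G → ℂ) g) := by
  obtain ⟨ε, hp, hn, hk, hi⟩ := exists_eigen hperf χ g h3
  have h1 := hk 1; have h2 := hk 2
  simp only [pow_one, Fin.sum_univ_three, pow_two] at h1 h2
  rw [Fin.prod_univ_three] at hp
  have hne : ∀ i, ε i ≠ 0 := fun i h => by simpa [h] using hn i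
  rw [← IsIrr.map_inv χ.2, hi, alt, h1, h2, Fin.sum_univ_three]
  have := hne 0; have := hne 1; have := hne 2
  field_simp
  linear_combination 2 * (ε 0 * ε 1 + ε 0 * ε 2 + ε 1 * ε 2) * hp

/-- The exterior square in degree four is self-dual, and its exterior square is the adjoint character. -/
theorem alt_deg_four (hperf : commutator G = ⊤) (χ : Cfsg.IrrCharacter G) (h4 : deg χ = 4) (g : G) :
    conj (alt (χ : G → ℂ) g) = alt (χ : G → ℂ) g ∧
      alt (χ : G → ℂ) g * alt (χ : G → ℂ) g - alt (χ : G → ℂ) (g * g) =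
        2 * ((χ : G → ℂ) g * conj ((χ : G → ℂ) g) - 1) := by
  obtain ⟨ε, hp, hn, hk, hi⟩ := exists_eigen hperf χ g h4
  have h1 := hk 1; have h2 := hk 2; have h4' := hk 4
  simp only [pow_one, Fin.sum_univ_four] at h1 h2 h4'
  rw [Fin.prod_univ_four] at hp
  have hne : ∀ i, ε i ≠ 0 := fun i h => by simpa [h] using hn i
  have hconj : ∀ i, conj (ε i) = (ε i)⁻¹ := fun i => (Complex.inv_eq_conj (hn i)).symm
  have e2 : g * g = g ^ 2 := (pow_two g).symm
  have e4 : g * g * (g * g) = g ^ 4 := by rw [e2, ← pow_add]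
  have := hne 0; have := hne 1; have := hne 2
  have h3 : ε 3 = (ε 0 * ε 1 * ε 2)⁻¹ := eq_inv_of_mul_eq_one_right hp
  constructor
  · simp only [alt, e2, h1, h2, map_div₀, map_sub, map_mul, map_add, map_pow, map_ofNat, hconj]
    rw [h3]
    field_simp
    ring
  · rw [← IsIrr.map_inv χ.2, hi]
    simp only [alt, e4, h1, h4', Fin.sum_univ_four]
    simp only [e2, h2]
    rw [h3]
    field_simp
    ring

/-- An involutory image forces an integer value congruent to the degree. -/
theorem exists_parity (hperf : commutator G = ⊤) (χ : Cfsg.IrrCharacter G) {g : G}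
    (hg : (χ : G → ℂ) (g * g) = (χ : G → ℂ) 1) :
    ∃ k : ℕ, (χ : G → ℂ) g = 2 * (k : ℂ) - deg χ := by
  obtain ⟨ε, hp, hn, hk, hi⟩ := exists_eigen hperf χ g rfl
  have h2 := hk 2
  rw [pow_two g, hg, ← cast_irrDegree] at h2
  have hre : ∀ i, (ε i ^ 2).re ≤ 1 := fun i => by
    refine (Complex.re_le_norm _).trans ?_
    rw [norm_pow, hn, one_pow]
  have hs : ∑ i, (ε i ^ 2).re = ∑ _i : Fin (deg χ), (1 : ℝ) := by
    rw [← Complex.re_sum, ← h2]; simp
  have hsq : ∀ i, ε i = 1 ∨ ε i = -1 := fun i => by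
    have he : (ε i ^ 2).re = 1 := (Finset.sum_eq_sum_iff_of_le fun j _ => hre j).1 hs i (Finset.mem_univ i)
    have hnorm : ‖ε i ^ 2‖ = 1 := by rw [norm_pow, hn, one_pow]
    have e := Complex.normSq_apply (ε i ^ 2)
    rw [Complex.normSq_eq_norm_sq, hnorm, he] at e
    have him : (ε i ^ 2).im = 0 := by nlinarith
    exact sq_eq_one_iff.1 (Complex.ext (by simpa using he) (by simpa using him))
  refine ⟨(Finset.univ.filter fun i => ε i = 1).card, ?_⟩
  have h1 := hk 1
  simp only [pow_one] at h1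
  have e : ∀ i, ε i = 2 * (if ε i = 1 then 1 else 0) - 1 := fun i => by
    rcases hsq i with h | h <;> rw [h] <;> norm_num
  rw [h1, Finset.sum_congr rfl fun i _ => e i, Finset.sum_sub_distrib, ← Finset.mul_sum,
    Finset.sum_boole, Finset.sum_const, Finset.card_univ, Fintype.card_fin, nsmul_eq_mul, mul_one]

end CfsgLib.Char.MinusFour
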