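import Cfsg.Agent.Lib.Char.MinusFour.Values

/-!
# Constituents of products of characters of degree three

`IsT` characters, their adjoint multiplicities `adj`, and the constituent lemmas.
-/

set_option autoImplicit false
set_option linter.all false

open scoped Classical ComplexConjugate

namespace CfsgLib.Char.MinusFour

open Module CfsgLib.Char CfsgLib.CharDegree

variable {G : Type*} [Group G] [Fintype G] {u : G} [Fintype (Cfsg.IrrCharacter G)]

/-- The function of a multiplicity function. -/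
noncomputable def tfun (f : Cfsg.IrrCharacter G → ℕ) (g : G) : ℂ :=
  ∑ ψ, (f ψ : ℂ) * (ψ : G → ℂ) g

theorem tfun_mult {Φ : G → ℂ} (h : Cfsg.IsCharacter G Φ) (g : G) : tfun (mult Φ) g = Φ g :=
  (eq_sum_mult h g).symm

theorem tfun_of_zero {f : Cfsg.IrrCharacter G → ℕ} (h : ∀ ψ, f ψ = 0) (g : G) : tfun f g = 0 := by
  simp [tfun, h]

theorem tfun_remove {f : Cfsg.IrrCharacter G → ℕ} {a : Cfsg.IrrCharacter G} (h : f a ≠ 0) (g : G) :
    tfun f g = tfun (remove f a) g + (a : G → ℂ) g := by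
  unfold tfun
  rw [← Finset.add_sum_erase _ _ (Finset.mem_univ a), ← Finset.add_sum_erase _ _ (Finset.mem_univ a),
    remove_self, Finset.sum_congr rfl fun ψ hψ => by rw [← remove_of_ne f (Finset.ne_of_mem_erase hψ)]]
  obtain ⟨k, hk⟩ : ∃ k, f a = k + 1 := ⟨f a - 1, by omega⟩
  rw [hk, Nat.add_sub_cancel]
  push_cast
  ring

theorem deg_conjIrr (χ : Cfsg.IrrCharacter G) : deg (conjIrr χ) = deg χ := by
  simp [deg, Cfsg.charDegree]

theorem Ctx.val_conjIrr (H : Ctx u) (χ : Cfsg.IrrCharacter G) : val u (conjIrr χ) = val u χ := by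
  have h := H.cast_val (conjIrr χ)
  rw [conjIrr_apply, H.cast_val χ, map_intCast, Int.cast_inj] at h
  exact h.symm

theorem Ctx.isT_conjIrr (H : Ctx u) {χ : Cfsg.IrrCharacter G} (h : IsT u χ) : IsT u (conjIrr χ) :=
  ⟨(deg_conjIrr χ).trans h.1, (H.val_conjIrr χ).trans h.2⟩

theorem conj_real {θ : Cfsg.IrrCharacter G} (h : conjIrr θ = θ) (g : G) :
    conj ((θ : G → ℂ) g) = (θ : G → ℂ) g := by
  rw [← conjIrr_apply, h]

theorem mult_irr (χ ψ : Cfsg.IrrCharacter G) : mult (χ : G → ℂ) ψ = if χ = ψ then 1 else 0 := by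
  apply mult_eq_of_inner
  rw [classInner_irr]
  split_ifs <;> simp

/-- A symmetric multiplicity function for a real character. -/
theorem mult_conjIrr {Φ : G → ℂ} (h : Cfsg.IsCharacter G Φ) (hr : ∀ g, conj (Φ g) = Φ g)
    (ψ : Cfsg.IrrCharacter G) : mult Φ (conjIrr ψ) = mult Φ ψ := by
  apply mult_eq_of_inner
  have e : Cfsg.classInner Φ (conjIrr ψ : G → ℂ) = conj (Cfsg.classInner Φ (ψ : G → ℂ)) := by
    simp [Cfsg.classInner, map_sum, hr]
  rw [e, ← cast_mult h, map_natCast]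

/-- `u²` lies in the kernel. -/
theorem Ctx.sq_kernel (H : Ctx u) {χ : Cfsg.IrrCharacter G} (h : IsT u χ) :
    (χ : G → ℂ) (u * u) = (χ : G → ℂ) 1 := by
  have h1 := alt_eq_conj H.perfect χ h.1 u
  rw [alt, H.cast_val χ, h.2, map_intCast] at h1
  rw [← cast_irrDegree, show Cfsg.charDegree (χ : G → ℂ) = 3 from h.1]
  push_cast at h1 ⊢
  linear_combination (-2 : ℂ) * h1

/-- The adjoint of a character: `χ χ̄ - 1`. -/
noncomputable def adj (χ : Cfsg.IrrCharacter G) : Cfsg.IrrCharacter G → ℕ :=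
  remove (mult ((χ : G → ℂ) * (conjIrr χ : G → ℂ))) (trivChar G)

theorem adj_triv (χ : Cfsg.IrrCharacter G) : adj χ (trivChar G) = 0 := by
  simp [adj, remove_self, mult_prod_triv]

theorem adj_apply (χ : Cfsg.IrrCharacter G) {ψ : Cfsg.IrrCharacter G} (h : ψ ≠ trivChar G) :
    adj χ ψ = mult ((χ : G → ℂ) * (conjIrr χ : G → ℂ)) ψ := remove_of_ne _ h

theorem mult_adjoint_triv (χ : Cfsg.IrrCharacter G) :
    mult ((χ : G → ℂ) * (conjIrr χ : G → ℂ)) (trivChar G) = 1 := by simp [mult_prod_triv]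

theorem tfun_adj (χ : Cfsg.IrrCharacter G) (g : G) :
    (χ : G → ℂ) g * conj ((χ : G → ℂ) g) = tfun (adj χ) g + 1 := by
  have h := tfun_remove (f := mult ((χ : G → ℂ) * (conjIrr χ : G → ℂ))) (a := trivChar G)
    (by rw [mult_adjoint_triv]; omega) g
  rw [tfun_mult (isChar_prod _ _), trivChar_apply] at h
  simpa [adj] using h

theorem Ctx.adj_data (H : Ctx u) {χ : Cfsg.IrrCharacter G} (h : IsT u χ) :
    tdeg (adj χ) = 8 ∧ tval u (adj χ) = 0 := by
  have h0 : mult ((χ : G → ℂ) * (conjIrr χ : G → ℂ)) (trivChar G) ≠ 0 := by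
    rw [mult_adjoint_triv]; omega
  have hd := tdeg_remove h0
  have hv := tval_remove (u := u) h0
  rw [tdeg_prod, deg_conjIrr, show deg χ = 3 from h.1, deg_triv] at hd
  rw [H.tval_prod, H.val_conjIrr, h.2, val_triv] at hv
  unfold adj
  constructor <;> omega

theorem adj_conjIrr (χ ψ : Cfsg.IrrCharacter G) (hψ : ψ ≠ trivChar G) :
    adj χ (conjIrr ψ) = adj χ ψ := by
  have hne : conjIrr ψ ≠ trivChar G := fun e => hψ (by
    rw [← conjIrr_conjIrr ψ, e]; exact irr_ext fun g => by simp)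
  rw [adj_apply χ hne, adj_apply χ hψ]
  exact mult_conjIrr (isChar_prod _ _) (fun g => by
    simp [mul_comm]) ψ

/-- Degree at most six and positive value: one constituent. -/
theorem Ctx.single (H : Ctx u) {f : Cfsg.IrrCharacter G → ℕ} (h0 : f (trivChar G) = 0)
    (hV : 0 < tval u f) (hD : tdeg f ≤ 6) :
    ∃ ψ, f ψ = 1 ∧ deg ψ = tdeg f ∧ 5 ≤ deg ψ ∧ val u ψ = (deg ψ : ℤ) - 4 ∧
      (∀ φ, φ ≠ ψ → f φ = 0) ∧ ∀ g, tfun f g = (ψ : G → ℂ) g := by
  obtain ⟨ψ, hψ, h5, hle, hv⟩ := exists_pos_le h0 hV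
  have hd := tdeg_remove hψ
  have hz := H.eq_zero_of_tdeg (f := remove f ψ) (by have := remove_le f ψ (trivChar G); omega)
    (by omega)
  rw [tdeg_of_zero hz] at hd
  have h1 := hz ψ
  rw [remove_self] at h1
  refine ⟨ψ, by omega, by omega, h5, hv, fun φ hφ => by rw [← remove_of_ne f hφ]; exact hz φ,
    fun g => ?_⟩
  rw [tfun_remove hψ, tfun_of_zero hz, zero_add]

/-- The square of a real character of `IsT`. -/
theorem Ctx.exists_rho (H : Ctx u) {θ : Cfsg.IrrCharacter G} (h : IsT u θ) (hr : conjIrr θ = θ) :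
    ∃ ρ : Cfsg.IrrCharacter G, deg ρ = 5 ∧ val u ρ = 1 ∧
      (∀ g, (θ : G → ℂ) g * (θ : G → ℂ) g = 1 + (θ : G → ℂ) g + (ρ : G → ℂ) g) ∧
      ∀ g, conj ((ρ : G → ℂ) g) = (ρ : G → ℂ) g := by
  have hne : θ ≠ trivChar G := IsT.ne_triv h
  have hadj : adj θ θ ≠ 0 := by
    rw [adj_apply θ hne, hr]
    intro h0
    have hs := isCharacter_sym (IsIrr.isCharacter θ.2)
    have ha := isCharacter_alt (IsIrr.isCharacter θ.2)
    have e : Cfsg.classInner ((θ : G → ℂ) * (θ : G → ℂ)) (θ : G → ℂ) =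
        Cfsg.classInner (alt (θ : G → ℂ)) (θ : G → ℂ) + Cfsg.classInner (sym (θ : G → ℂ)) (θ : G → ℂ) := by
      rw [← classInner_add_left]
      congr 1
      funext g
      simp only [Pi.mul_apply, Pi.add_apply, alt, sym]
      ring
    have e2 : alt (θ : G → ℂ) = (θ : G → ℂ) := funext fun g => by
      rw [alt_eq_conj H.perfect θ h.1 g, conj_real hr]
    rw [e2, classInner_irr_self, ← cast_mult hs, ← cast_mult (isChar_prod θ θ), h0] at e
    have : 0 = 1 + mult (sym (θ : G → ℂ)) θ := by exact_mod_cast e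
    omega
  obtain ⟨hD, hV⟩ := H.adj_data h
  have hd := tdeg_remove hadj
  have hv := tval_remove (u := u) hadj
  rw [show deg θ = 3 from h.1] at hd
  rw [h.2] at hv
  obtain ⟨ρ, -, hρd, -, hρv, -, hρf⟩ := H.single (f := remove (adj θ) θ)
    (by rw [remove_of_ne _ (Ne.symm hne)]; exact adj_triv θ) (by omega) (by omega)
  have hd5 : deg ρ = 5 := by omega
  have hsq : ∀ g, (θ : G → ℂ) g * (θ : G → ℂ) g = 1 + (θ : G → ℂ) g + (ρ : G → ℂ) g := fun g => by
    have := tfun_adj θ g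
    rw [conj_real hr, tfun_remove hadj, hρf] at this
    rw [this]; ring
  refine ⟨ρ, hd5, by omega, hsq, fun g => ?_⟩
  have := congrArg conj (hsq g)
  rw [map_mul, map_add, map_add, map_one, conj_real hr, hsq g] at this
  linear_combination -this

theorem ne_of_deg {χ ψ : Cfsg.IrrCharacter G} (h : deg χ ≠ deg ψ) : χ ≠ ψ := fun e => h (e ▸ rfl)

theorem inner_triv_irr (χ : Cfsg.IrrCharacter G) (h : χ ≠ trivChar G) :
    Cfsg.classInner (trivChar G : G → ℂ) (χ : G → ℂ) = 0 := classInner_irr_of_ne (Ne.symm h)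

/-- The inner product of a character with `1 + θ + ρ`. -/
theorem inner_three {Φ : G → ℂ} (hΦ : Cfsg.IsCharacter G Φ) {Ψ : G → ℂ} {θ ρ : Cfsg.IrrCharacter G}
    (hΨ : ∀ g, Ψ g = 1 + (θ : G → ℂ) g + (ρ : G → ℂ) g) :
    Cfsg.classInner Φ Ψ = ((mult Φ (trivChar G) + mult Φ θ + mult Φ ρ : ℕ) : ℂ) := by
  have e : Ψ = (trivChar G : G → ℂ) + (θ : G → ℂ) + (ρ : G → ℂ) := funext fun g => by simp [hΨ g]
  rw [e, classInner_add_right, classInner_add_right, Nat.cast_add, Nat.cast_add, cast_mult hΦ,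
    cast_mult hΦ, cast_mult hΦ]

/-- A product of two `IsT` characters with no trivial constituent is reducible. -/
theorem Ctx.two_le_norm (H : Ctx u) {χ ψ : Cfsg.IrrCharacter G} (hχ : IsT u χ) (hψ : IsT u ψ)
    {n : ℕ} (hn : Cfsg.classInner ((χ : G → ℂ) * (ψ : G → ℂ)) ((χ : G → ℂ) * (ψ : G → ℂ)) = n) :
    2 ≤ n := by
  have h1 : ((χ : G → ℂ) * (ψ : G → ℂ)) 1 = ((9 : ℕ) : ℂ) := by
    rw [Pi.mul_apply, ← cast_irrDegree, ← cast_irrDegree, ← Nat.cast_mul,
      show Cfsg.charDegree (χ : G → ℂ) = 3 from hχ.1, show Cfsg.charDegree (ψ : G → ℂ) = 3 from hψ.1]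
  by_contra hlt
  rcases (show n = 0 ∨ n = 1 by omega) with rfl | rfl
  · have := congrFun (IsChar.eq_zero_of_classInner_self (isChar_prod χ ψ) (by simpa using hn)) 1
    rw [h1] at this; norm_num at this
  · let φ : Cfsg.IrrCharacter G :=
      ⟨_, IsChar.isIrr_of_classInner_eq_one (isChar_prod χ ψ) (by simpa using hn)⟩
    have hd : deg φ = 9 := charDegree_eq_of_apply_one h1
    have hv : val u φ = 1 := by
      have h := H.cast_val φ
      have e : (φ : G → ℂ) u = ((1 : ℤ) : ℂ) := by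
        show ((χ : G → ℂ) * (ψ : G → ℂ)) u = _
        rw [Pi.mul_apply, H.cast_val χ, H.cast_val ψ, hχ.2, hψ.2]; norm_num
      rw [e, Int.cast_inj] at h
      exact h.symm
    have hne : φ ≠ trivChar G := ne_of_deg (by rw [hd, deg_triv]; omega)
    rcases val_cases (u := u) hne with e | e <;> rw [hv] at e <;> omega

end CfsgLib.Char.MinusFour
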