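import Cfsg.Agent.Lib.Char.MinusFour.Quotient
import Cfsg.Agent.Lib.Signalizer.Count
import Cfsg.Agent.Lib.Components.Radicals
import Cfsg.Prelude.Def_CaseTheorems
import Mathlib.GroupTheory.Sylow

/-!
# The structure of a group with the constant four

`G / O(G)` is `PSL(2,5)` or `SL(2,5)`, and `O(G)` is abelian: it is trivial in the first case and
inverted by the involution `u²` in the second.
-/

set_option autoImplicit false
set_option linter.all false

open scoped Classical ComplexConjugate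

namespace CfsgLib.Char.MinusFour

open Subgroup

theorem sl_sq_eq_one : ∀ a : Matrix.SpecialLinearGroup (Fin 2) (ZMod 5), a * a = 1 → a = 1 ∨ a = -1 := by
  intro a ha
  have h := congrArg (fun m : Matrix.SpecialLinearGroup (Fin 2) (ZMod 5) => (m : Matrix (Fin 2) (Fin 2) (ZMod 5))) ha
  have hd : (a : Matrix (Fin 2) (Fin 2) (ZMod 5)).det = 1 := a.2
  simp only [Matrix.SpecialLinearGroup.coe_mul, Matrix.SpecialLinearGroup.coe_one] at h
  have key : ∀ p q r s : ZMod 5, p * p + q * r = 1 → p * q + q * s = 0 → r * p + s * r = 0 →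
      r * q + s * s = 1 → p * s - q * r = 1 → (p = 1 ∧ q = 0 ∧ r = 0 ∧ s = 1) ∨ (p = -1 ∧ q = 0 ∧ r = 0 ∧ s = -1) := by
    decide +kernel
  have e00 := congrFun (congrFun h 0) 0
  have e01 := congrFun (congrFun h 0) 1
  have e10 := congrFun (congrFun h 1) 0
  have e11 := congrFun (congrFun h 1) 1
  simp [Matrix.mul_apply, Fin.sum_univ_two] at e00 e01 e10 e11
  rw [Matrix.det_fin_two] at hd
  rcases key _ _ _ _ e00 e01 e10 e11 hd with ⟨h1, h2, h3, h4⟩ | ⟨h1, h2, h3, h4⟩
  · left
    apply Subtype.ext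
    ext i j; fin_cases i <;> fin_cases j <;> simp [h1, h2, h3, h4]
  · right
    apply Subtype.ext
    ext i j; fin_cases i <;> fin_cases j <;> simp [h1, h2, h3, h4]

theorem alt_five_facts :
    (∀ a : alternatingGroup (Fin 5), a ^ 4 = 1 → a * a = 1) ∧
    ∃ t : alternatingGroup (Fin 5), ∀ a : alternatingGroup (Fin 5), a * a = 1 → a ≠ 1 → ∃ c, c * a * c⁻¹ = t := by
  refine ⟨by decide +kernel,
    ⟨Equiv.swap 0 1 * Equiv.swap 2 3, Equiv.Perm.mem_alternatingGroup.2 (by decide)⟩, by decide +kernel⟩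

variable {G : Type*} [Group G] [Finite G]

/-- A fixed point free automorphism of order two inverts. -/
theorem inverts_of_fpf (K : Subgroup G) {s : G} (hK : ∀ m ∈ K, s * m * s⁻¹ ∈ K)
    (hs : ∀ m ∈ K, s * s * m = m * (s * s)) (hfp : ∀ m ∈ K, s * m = m * s → m = 1)
    {a : G} (ha : a ∈ K) : s * a * s⁻¹ = a⁻¹ := by
  let f : K → K := fun m => ⟨(m : G)⁻¹ * (s * m * s⁻¹), K.mul_mem (K.inv_mem m.2) (hK m m.2)⟩
  have hf : Function.Injective f := by
    intro m m' h
    have h' : (m : G)⁻¹ * (s * m * s⁻¹) = (m' : G)⁻¹ * (s * m' * s⁻¹) := congrArg Subtype.val h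
    have h1 : (m' : G) * (m : G)⁻¹ = 1 := by
      refine hfp _ (K.mul_mem m'.2 (K.inv_mem m.2)) ?_
      calc s * ((m' : G) * (m : G)⁻¹) = (s * m' * s⁻¹) * (s * m * s⁻¹)⁻¹ * s := by group
        _ = (m' : G) * ((m' : G)⁻¹ * (s * m' * s⁻¹)) * (s * m * s⁻¹)⁻¹ * s := by group
        _ = (m' : G) * ((m : G)⁻¹ * (s * m * s⁻¹)) * (s * m * s⁻¹)⁻¹ * s := by rw [h']
        _ = (m' : G) * (m : G)⁻¹ * s := by group
    exact Subtype.ext (mul_inv_eq_one.1 h1).symm
  obtain ⟨m, hm⟩ := (Finite.injective_iff_surjective.1 hf) ⟨a, ha⟩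
  have hm' : (m : G)⁻¹ * (s * m * s⁻¹) = a := congrArg Subtype.val hm
  calc s * a * s⁻¹ = (s * m * s⁻¹)⁻¹ * (s * s * m * (s * s)⁻¹) := by rw [← hm']; group
    _ = (s * m * s⁻¹)⁻¹ * (m : G) := by rw [hs _ m.2]; group
    _ = a⁻¹ := by rw [← hm']; group

theorem commute_of_inverted (K : Subgroup G) {s : G} (h : ∀ a ∈ K, s * a * s⁻¹ = a⁻¹) :
    ∀ a ∈ K, ∀ b ∈ K, a * b = b * a := by
  intro a ha b hb
  have e : (b * a)⁻¹ = (a * b)⁻¹ := by
    calc (b * a)⁻¹ = a⁻¹ * b⁻¹ := mul_inv_rev b a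
      _ = (s * a * s⁻¹) * (s * b * s⁻¹) := by rw [h a ha, h b hb]
      _ = s * (a * b) * s⁻¹ := by group
      _ = (a * b)⁻¹ := h _ (K.mul_mem ha hb)
  exact (inv_injective e).symm

variable {u : G}

/-- The conclusion for an involution. -/
theorem case_two (hperf : commutator G = ⊤) (hC : Nat.card (centralizer ({u} : Set G)) = 4)
    (N : Subgroup G) [N.Normal] (hu2 : orderOf u = 2) (huN : u ∉ N)
    (hcls : ∀ g : G, g ∉ N → g ^ 4 ∈ N → IsConj u g)
    (hns : ∃ g : G, u * (g * u * g⁻¹) ∉ N) (hH : IsSimpleGroup (G ⧸ N)) (h60 : Nat.card (G ⧸ N) = 60) :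
    N = ⊥ := by
  have hu : u * u = 1 := by rw [← pow_two, ← hu2, pow_orderOf_eq_one]
  have hinv : u⁻¹ = u := inv_eq_of_mul_eq_one_right hu
  have hN' : ∀ n ∈ N, u * n * u⁻¹ = n⁻¹ := by
    intro n hn
    obtain ⟨c, hc⟩ := isConj_iff.1 (hcls (u * n) (fun h => huN (by simpa using N.mul_mem h (N.inv_mem hn))) (by
      have e : ((u * n : G) : G ⧸ N) ^ 4 = 1 := by
        rw [QuotientGroup.mk_mul, (QuotientGroup.eq_one_iff n).2 hn, mul_one, ← QuotientGroup.mk_pow,
          show u ^ 4 = (u * u) * (u * u) by simp [pow_succ, mul_assoc], hu, one_mul, QuotientGroup.mk_one]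
      exact (QuotientGroup.eq_one_iff _).1 (by rwa [QuotientGroup.mk_pow])))
    have h2 : u * n * (u * n) = 1 := by
      rw [← hc]
      calc c * u * c⁻¹ * (c * u * c⁻¹) = c * (u * u) * c⁻¹ := by group
        _ = 1 := by rw [hu]; group
    rw [hinv]
    calc u * n * u = u * n * (u * n) * n⁻¹ := by group
      _ = n⁻¹ := by rw [h2, one_mul]
  have hab := commute_of_inverted N hN'
  set C := centralizer (N : Set G) with hCdef
  have hprod : ∀ g : G, u * (g * u * g⁻¹) ∈ C := by
    intro g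
    rw [hCdef, mem_centralizer_iff]
    intro n hn
    have hconj : g * u * g⁻¹ * n * (g * u * g⁻¹)⁻¹ = n⁻¹ := by
      have := hN' (g⁻¹ * n * g) (by simpa using (inferInstance : N.Normal).conj_mem n hn g⁻¹)
      calc g * u * g⁻¹ * n * (g * u * g⁻¹)⁻¹ = g * (u * (g⁻¹ * n * g) * u⁻¹) * g⁻¹ := by group
        _ = n⁻¹ := by rw [this]; group
    have e : u * (g * u * g⁻¹) * n * (u * (g * u * g⁻¹))⁻¹ = n := by
      calc u * (g * u * g⁻¹) * n * (u * (g * u * g⁻¹))⁻¹
          = u * (g * u * g⁻¹ * n * (g * u * g⁻¹)⁻¹) * u⁻¹ := by group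
        _ = n := by rw [hconj, hN' _ (N.inv_mem hn), inv_inv]
    exact (mul_inv_eq_iff_eq_mul.1 e).symm
  have hCtop : C = ⊤ := by
    haveI hCn : C.Normal := by rw [hCdef]; infer_instance
    rcases hH.eq_bot_or_eq_top_of_normal (C.map (QuotientGroup.mk' N))
      (hCn.map _ (QuotientGroup.mk'_surjective N)) with h | h
    · exfalso
      obtain ⟨g, hg⟩ := hns
      exact hg ((QuotientGroup.eq_one_iff _).1 (mem_bot.1 (h ▸ mem_map_of_mem _ (hprod g))))
    · have h1 : C ⊔ N = ⊤ := by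
        rw [← QuotientGroup.ker_mk' N, ← comap_map_eq, h, comap_top]
      refine eq_top_iff.2 (le_trans h1.ge (sup_le le_rfl ?_))
      intro n hn
      rw [hCdef, mem_centralizer_iff]
      exact fun m hm => hab m hm n hn
  have hNu : N ≤ centralizer ({u} : Set G) := fun n hn => by
    rw [mem_centralizer_singleton_iff]
    have : u ∈ C := hCtop ▸ mem_top u
    rw [hCdef, mem_centralizer_iff] at this
    exact this n hn
  have hdvd : Nat.card N ∣ 4 := hC ▸ card_dvd_of_le hNu
  have hne4 : Nat.card N ≠ 4 := fun h => huN ((eq_of_le_of_card_ge hNu (by omega)).symm ▸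
    mem_centralizer_singleton_iff.2 rfl)
  rcases (show Nat.card N = 1 ∨ Nat.card N = 2 by
    have := Nat.le_of_dvd (by norm_num) hdvd
    have hp : 0 < Nat.card N := Nat.card_pos
    interval_cases hk : Nat.card N <;> simp_all) with h1 | h2
  · exact eq_bot_of_card_eq N h1
  · exfalso
    have hcG : Nat.card G = 120 := by
      rw [card_eq_card_quotient_mul_card_subgroup N, h60, h2]
    have hNc : N ≤ center G := fun n hn => mem_center_iff.2 fun g => by
      have : g ∈ C := hCtop ▸ mem_top g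
      rw [hCdef, mem_centralizer_iff] at this
      exact (this n hn).symm
    obtain ⟨e5⟩ := Cfsg.Agent.S0494.result (G := G ⧸ N) h60
    obtain ⟨e⟩ := CfsgLib.Recog.Zassenhaus.nonempty_sl25_of_pair hcG hperf N hNc h2 e5
    obtain ⟨⟨z, hz⟩, hz1⟩ : ∃ z : N, z ≠ 1 := by
      haveI : Nontrivial N := Finite.one_lt_card_iff_nontrivial.1 (by omega)
      exact exists_ne 1
    have hzz : z * z = 1 := by
      have := congrArg Subtype.val (pow_card_eq_one' (x := (⟨z, hz⟩ : N)))
      rw [h2] at this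
      simpa [pow_two] using this
    have key : ∀ g : G, g * g = 1 → g ≠ 1 → e g = -1 := fun g hg hg1 => by
      rcases sl_sq_eq_one (e g) (by rw [← map_mul, hg, map_one]) with h | h
      · exact absurd (e.injective (h.trans (map_one e).symm)) hg1
      · exact h
    have hz1' : z ≠ 1 := fun h => hz1 (Subtype.ext h)
    have hu1 : u ≠ 1 := fun h => huN (h ▸ N.one_mem)
    exact huN (e.injective ((key u hu hu1).trans (key z hzz hz1').symm) ▸ hz)

/-- The data in the case of order four: `N` has a subgroup `M` of index two and odd order. -/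
theorem sylow_kernel (hC : Nat.card (centralizer ({u} : Set G)) = 4)
    (N : Subgroup G) [N.Normal] (hu4 : orderOf u = 4) (huu : u * u ∈ N) (huN : u ∉ N)
    (hcls : ∀ g : G, g ∉ N → g ^ 4 ∈ N → IsConj u g) (h60 : Nat.card (G ⧸ N) = 60) :
    ∃ M : Subgroup G, M.Normal ∧ M ≤ N ∧ Odd (Nat.card M) ∧ Nat.card N = 2 * Nat.card M ∧
      ∀ n ∈ N, Odd (orderOf n) → n ∈ M := by
  haveI : Fact (Nat.Prime 2) := ⟨Nat.prime_two⟩
  have hz : orderOf (u * u) = 2 := by rw [← pow_two, orderOf_pow, hu4]; rfl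
  have hCu : centralizer ({u} : Set G) = zpowers u := (eq_of_le_of_card_ge
    (zpowers_le.2 (mem_centralizer_singleton_iff.2 rfl)) (by rw [hC, Nat.card_zpowers, hu4])).symm
  obtain ⟨P, hP⟩ := (IsPGroup.of_card (n := 2) (by rw [Nat.card_zpowers, hu4]; rfl) :
    IsPGroup 2 (zpowers u)).exists_le_sylow
  have huP : u ∈ (P : Subgroup G) := hP (mem_zpowers u)
  haveI : Nontrivial (P : Subgroup G) := ⟨⟨⟨u, huP⟩, 1, fun h => huN (by
    rw [show u = 1 from congrArg Subtype.val h]; exact N.one_mem)⟩⟩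
  have hzP : ∀ v ∈ (P : Subgroup G), u * u * v = v * (u * u) := by
    have : Finite (P : Subgroup G) := inferInstance
    haveI := P.2.center_nontrivial
    obtain ⟨⟨c, hc⟩, hc1⟩ := exists_ne (1 : center (P : Subgroup G))
    have hc' : (c : G) ∈ zpowers u := hCu ▸ mem_centralizer_singleton_iff.2
      (congrArg Subtype.val (mem_center_iff.1 hc ⟨u, huP⟩)).symm
    obtain ⟨k, hk⟩ := mem_zpowers_iff.1 hc'
    have hk4 : (c : G) = u ^ (k % 4) := by rw [← hk, ← zpow_mod_orderOf, hu4]; norm_num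
    have hpow : u ^ (4 : ℤ) = 1 := by
      rw [show (4 : ℤ) = ((4 : ℕ) : ℤ) from rfl, zpow_natCast, ← hu4, pow_orderOf_eq_one]
    have hzc : u * u = (c : G) ∨ u * u = (c : G) * c := by
      rcases (show k % 4 = 0 ∨ k % 4 = 1 ∨ k % 4 = 2 ∨ k % 4 = 3 by omega) with e | e | e | e <;>
        rw [e] at hk4
      · exact absurd (Subtype.ext (Subtype.ext (by simpa using hk4))) hc1
      · right; rw [hk4, zpow_one]
      · left; rw [hk4, zpow_two]
      · right
        rw [hk4, ← zpow_add, show (3 : ℤ) + 3 = 4 + 2 by norm_num, zpow_add, hpow, one_mul, zpow_two]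
    intro v hv
    have hcv : (c : G) * v = v * c := (congrArg Subtype.val (mem_center_iff.1 hc ⟨v, hv⟩)).symm
    rcases hzc with e | e
    · rw [e]; exact hcv
    · rw [e]
      exact ((show Commute (c : G) v from hcv).mul_left hcv).eq
  have hsq : ∀ v ∈ (P : Subgroup G), v ∉ N → v * v = u * u := by
    intro v hv hvN
    obtain ⟨k, hk⟩ := P.2 ⟨v, hv⟩
    have hv4 : v ^ 4 ∈ N := by
      have h1 : ((v : G) : G ⧸ N) ^ 2 ^ k = 1 := by
        rw [← QuotientGroup.mk_pow, show v ^ 2 ^ k = 1 from congrArg Subtype.val hk, QuotientGroup.mk_one]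
      have h2 : ((v : G) : G ⧸ N) ^ 4 = 1 := by
        refine orderOf_dvd_iff_pow_eq_one.1 ?_
        have hd2 := orderOf_dvd_of_pow_eq_one h1
        obtain ⟨j, -, hj⟩ := (Nat.dvd_prime_pow Nat.prime_two).1 hd2
        have hd60 : orderOf ((v : G) : G ⧸ N) ∣ 60 := h60 ▸ orderOf_dvd_natCard _
        rw [hj] at hd60 ⊢
        rcases Nat.lt_or_ge j 3 with h | h
        · exact pow_dvd_pow 2 (show j ≤ 2 by omega)
        · exact absurd ((pow_dvd_pow 2 h).trans hd60) (by norm_num)
      exact (QuotientGroup.eq_one_iff _).1 (by rwa [QuotientGroup.mk_pow])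
    obtain ⟨c, hc⟩ := isConj_iff.1 (hcls v hvN hv4)
    have hoc : u * u * v = v * (u * u) := hzP v hv
    have hmem : c⁻¹ * (u * u) * c ∈ zpowers u := hCu ▸ mem_centralizer_singleton_iff.2 (by
      calc c⁻¹ * (u * u) * c * u = c⁻¹ * (u * u * (c * u * c⁻¹)) * c := by group
        _ = c⁻¹ * (c * u * c⁻¹ * (u * u)) * c := by rw [hc, hoc]
        _ = u * (c⁻¹ * (u * u) * c) := by group)
    obtain ⟨k, hk⟩ := mem_zpowers_iff.1 hmem
    have ho : orderOf (u ^ (k % 4)) = 2 := by
      have : u ^ (k % 4) = c⁻¹ * (u * u) * c := by rw [← hk, ← zpow_mod_orderOf u k, hu4]; norm_num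
      rw [this]
      have e := CfsgLib.Signalizer.orderOf_conj c⁻¹ (u * u)
      rw [inv_inv] at e
      rw [e, hz]
    rw [← hc]
    rcases (show k % 4 = 0 ∨ k % 4 = 1 ∨ k % 4 = 2 ∨ k % 4 = 3 by omega) with e | e | e | e
    · rw [e, zpow_zero, orderOf_one] at ho; omega
    · rw [e, zpow_one, hu4] at ho; omega
    · have hk2 : c⁻¹ * (u * u) * c = u * u := by
        rw [← hk, ← zpow_mod_orderOf u k, hu4]; norm_num [e, zpow_two, pow_two]
      calc c * u * c⁻¹ * (c * u * c⁻¹) = c * (u * u) * c⁻¹ := by group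
        _ = c * (c⁻¹ * (u * u) * c) * c⁻¹ := by rw [hk2]
        _ = u * u := by group
    · rw [e, show ((3 : ℤ)) = ((3 : ℕ) : ℤ) from rfl, zpow_natCast, orderOf_pow, hu4] at ho
      norm_num at ho
  -- the image of `P`
  let f : (P : Subgroup G) →* G ⧸ N := (QuotientGroup.mk' N).comp (P : Subgroup G).subtype
  have hrange : f.range = (P : Subgroup G).map (QuotientGroup.mk' N) := by
    rw [MonoidHom.range_comp, Subgroup.range_subtype]
  have hcard4 : Nat.card f.range = 4 := by
    rw [hrange]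
    have h := (P.mapSurjective (QuotientGroup.mk'_surjective N)).card_eq_multiplicity
    rw [Sylow.coe_mapSurjective, h60] at h
    rw [h, show (60 : ℕ) = 4 * 15 by norm_num, Nat.factorization_mul (by norm_num) (by norm_num)]
    simp [show Nat.factorization 4 2 = 2 by
      rw [show (4 : ℕ) = 2 ^ 2 by norm_num, Nat.Prime.factorization_pow Nat.prime_two]; simp,
      Nat.factorization_eq_zero_of_not_dvd (show ¬ 2 ∣ 15 by norm_num)]
  obtain ⟨v, hvP, hvN, huvN⟩ : ∃ v ∈ (P : Subgroup G), v ∉ N ∧ u * v ∉ N := by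
    by_contra hcon
    push Not at hcon
    have hsub : f.range ≤ zpowers (QuotientGroup.mk u : G ⧸ N) := by
      rintro _ ⟨⟨w, hw⟩, rfl⟩
      show (QuotientGroup.mk w : G ⧸ N) ∈ zpowers _
      by_cases hwN : w ∈ N
      · rw [(QuotientGroup.eq_one_iff w).2 hwN]; exact one_mem _
      · have := (QuotientGroup.eq_one_iff (u * w)).2 (hcon w hw hwN)
        rw [QuotientGroup.mk_mul] at this
        rw [eq_inv_of_mul_eq_one_right this]
        exact inv_mem (mem_zpowers _)
    have hle := Nat.le_of_dvd Nat.card_pos (card_dvd_of_le hsub)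
    have h2' : ((u : G) : G ⧸ N) ^ 2 = 1 := by
      rw [← QuotientGroup.mk_pow, pow_two]
      exact (QuotientGroup.eq_one_iff _).2 huu
    rw [hcard4, Nat.card_zpowers] at hle
    have := orderOf_le_of_pow_eq_one (by norm_num) h2'
    omega
  have hT : ∀ t ∈ (P : Subgroup G), t ∈ N → t = 1 ∨ t = u * u := by
    intro t ht htN
    have hout : ∀ w ∈ (P : Subgroup G), w ∉ N → t * w * t = w := by
      intro w hw hwN
      have h1 := hsq (w * t) ((P : Subgroup G).mul_mem hw ht) (fun h => hwN (by simpa using N.mul_mem h (N.inv_mem htN)))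
      have h2 := hsq w hw hwN
      calc t * w * t = w⁻¹ * (w * t * (w * t)) := by group
        _ = w⁻¹ * (w * w) := by rw [h1, h2]
        _ = w := by group
    have h1 := hout u huP huN
    have h2 := hout v hvP hvN
    have h3 := hout (u * v) ((P : Subgroup G).mul_mem huP hvP) huvN
    have e1 : t * u = u * t⁻¹ := by
      calc t * u = t * u * t * t⁻¹ := by group
        _ = u * t⁻¹ := by rw [h1]
    have e3 : t⁻¹ * v * t = v := by
      refine mul_left_cancel (a := u) ?_
      calc u * (t⁻¹ * v * t) = (u * t⁻¹) * v * t := by group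
        _ = u * v := by rw [← e1]; rw [← h3]; group
    have htt : t * t = 1 := by
      have e4 : t * v * t = t⁻¹ * v * t := h2.trans e3.symm
      have e5 : t = t⁻¹ := mul_right_cancel (mul_right_cancel e4)
      nth_rewrite 2 [e5]
      exact mul_inv_cancel t
    have htu : t ∈ zpowers u := hCu ▸ mem_centralizer_singleton_iff.2 (by
      rw [e1, inv_eq_of_mul_eq_one_right htt])
    obtain ⟨k, hk⟩ := mem_zpowers_iff.1 htu
    rw [← zpow_mod_orderOf, hu4] at hk
    rcases (show k % 4 = 0 ∨ k % 4 = 1 ∨ k % 4 = 2 ∨ k % 4 = 3 by omega) with e | e | e | e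
    · left; rw [← hk]; norm_num [e]
    · exact absurd htN (by rw [← hk]; norm_num [e]; exact huN)
    · right; rw [← hk]; norm_num [e, zpow_two, pow_two]
    · refine absurd htN fun h => huN ?_
      have e' : u = t * (u * u)⁻¹ := by rw [← hk]; norm_num [e]; group
      rw [e']
      exact N.mul_mem h (N.inv_mem huu)
  have hker : Nat.card f.ker = 2 := by
    rw [Nat.card_eq_two_iff]
    refine ⟨1, ⟨⟨u * u, (P : Subgroup G).mul_mem huP huP⟩, (QuotientGroup.eq_one_iff _).2 huu⟩, ?_, ?_⟩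
    · intro h
      have h' : (1 : G) = u * u := congrArg (fun x : f.ker => ((x : (P : Subgroup G)) : G)) h
      rw [← h', orderOf_one] at hz; omega
    · refine Set.eq_univ_of_forall fun w => ?_
      rcases hT _ w.1.2 ((QuotientGroup.eq_one_iff _).1 w.2) with h | h
      · exact Or.inl (Subtype.ext (Subtype.ext h))
      · exact Or.inr (Subtype.ext (Subtype.ext h))
  have hP8 : Nat.card (P : Subgroup G) = 2 ^ 3 := by
    have := f.ker.card_mul_index
    rw [index_ker, hker, hcard4] at this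
    omega
  have hN2 : ¬ 4 ∣ Nat.card N := by
    intro h
    have h16 : 2 ^ 4 ∣ Nat.card G := by
      rw [card_eq_card_quotient_mul_card_subgroup N, h60]
      exact dvd_trans (by norm_num) (Nat.mul_dvd_mul (show 4 ∣ 60 by norm_num) h)
    have := (Nat.Prime.pow_dvd_iff_le_factorization Nat.prime_two Nat.card_pos.ne').1 h16
    have h2 := P.card_eq_multiplicity
    rw [hP8] at h2
    have := Nat.pow_right_injective (le_refl 2) h2
    omega
  have heven : Even (Nat.card N) := even_iff_two_dvd.2 (by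
    rw [← hz]; exact Subgroup.orderOf_dvd_natCard N huu)
  obtain ⟨T⟩ : Nonempty (Sylow 2 N) := inferInstance
  have hTc : IsCyclic (T : Subgroup N) := by
    refine isCyclic_of_prime_card (p := 2) ?_
    rw [T.card_eq_multiplicity]
    have h1 : (Nat.card N).factorization 2 = 1 := by
      have ha := (Nat.Prime.pow_dvd_iff_le_factorization (k := 1) Nat.prime_two
        (Nat.card_pos (α := N)).ne').1 (by simpa using heven.two_dvd)
      have hb := mt (Nat.Prime.pow_dvd_iff_le_factorization (k := 2) Nat.prime_two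
        (Nat.card_pos (α := N)).ne').2 (by simpa using hN2)
      omega
    rw [h1, pow_one]
  obtain ⟨M0, hM0⟩ := CfsgLib.Signalizer.index_two_of_cyclic_sylow heven T hTc
  have hM0c : Nat.card N = 2 * Nat.card M0 := by rw [← M0.card_mul_index, hM0, mul_comm]
  have hodd : Odd (Nat.card M0) := by
    rw [Nat.odd_iff]
    by_contra h
    exact hN2 (by rw [hM0c]; omega)
  have hchar : ∀ n : N, Odd (orderOf n) → n ∈ M0 := by
    intro n hn
    haveI : M0.Normal := normal_of_index_eq_two hM0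
    rw [← QuotientGroup.eq_one_iff]
    refine orderOf_eq_one_iff.1 (Nat.eq_one_of_dvd_coprimes (a := orderOf n) (b := 2) ?_
      (orderOf_map_dvd (QuotientGroup.mk' M0) n) ?_)
    · exact (Nat.coprime_two_right).2 hn
    · rw [← hM0, index_eq_card]; exact orderOf_dvd_natCard _
  refine ⟨M0.map N.subtype, ?_, map_subtype_le M0, by
    rwa [card_map_of_injective N.subtype_injective], by
    rw [card_map_of_injective N.subtype_injective]; exact hM0c, fun n hn ho => ⟨⟨n, hn⟩, hchar ⟨n, hn⟩ (by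
      rwa [← Subgroup.orderOf_coe]), rfl⟩⟩
  refine ⟨fun n hn g => ?_⟩
  obtain ⟨⟨m, hm⟩, hmM, rfl⟩ := hn
  refine ⟨⟨g * m * g⁻¹, (inferInstance : N.Normal).conj_mem m hm g⟩, hchar _ ?_, rfl⟩
  have h1 : Odd (orderOf (⟨m, hm⟩ : N)) := by
    refine Odd.of_dvd_nat hodd ?_
    exact Subgroup.orderOf_dvd_natCard M0 hmM
  rw [← Subgroup.orderOf_coe] at h1 ⊢
  rwa [CfsgLib.Signalizer.orderOf_conj]

/-- In the case of order four, `u²` inverts `M`. -/
theorem inverted_by_sq (hC : Nat.card (centralizer ({u} : Set G)) = 4)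
    (N M : Subgroup G) [N.Normal] (hM : M.Normal) (hMN : M ≤ N) (hodd : Odd (Nat.card M))
    (hNM : Nat.card N = 2 * Nat.card M)
    (hu4 : orderOf u = 4) (huu : u * u ∈ N) (hns : ∃ g : G, u * (g * u * g⁻¹) ∉ N)
    (hH : IsSimpleGroup (G ⧸ N)) :
    ∀ m ∈ M, u * u * m * (u * u)⁻¹ = m⁻¹ := by
  haveI : Fact (Nat.Prime 2) := ⟨Nat.prime_two⟩
  set z := u * u with hzdef
  have hz : orderOf z = 2 := by rw [hzdef, ← pow_two, orderOf_pow, hu4]; rfl
  have hzz : z * z = 1 := by rw [← pow_two, ← hz, pow_orderOf_eq_one]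
  have hCu : centralizer ({u} : Set G) = zpowers u := (eq_of_le_of_card_ge
    (zpowers_le.2 (mem_centralizer_singleton_iff.2 rfl)) (by rw [hC, Nat.card_zpowers, hu4])).symm
  set C := centralizer ({z} : Set G) with hCdef
  have huC : u ∈ C := mem_centralizer_singleton_iff.2 (by rw [hzdef]; group)
  have hzM : z ∉ M := fun h => by
    have := Subgroup.orderOf_dvd_natCard M h
    rw [hz] at this
    exact (Nat.not_even_iff_odd.2 hodd) (even_iff_two_dvd.2 this)
  have hNfac : (Nat.card N).factorization 2 = 1 := by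
    rw [hNM, Nat.factorization_mul (by norm_num) Nat.card_pos.ne']
    simp [Nat.prime_two.factorization_self,
      Nat.factorization_eq_zero_of_not_dvd (show ¬ 2 ∣ Nat.card M from fun h =>
        (Nat.not_even_iff_odd.2 hodd) (even_iff_two_dvd.2 h))]
  -- Frattini
  have hfrat : ∀ g : G, ∃ n ∈ N, n * g ∈ C := by
    intro g
    have hz' : g * z * g⁻¹ ∈ N := (inferInstance : N.Normal).conj_mem z huu g
    have ho : orderOf (g * z * g⁻¹) = 2 := by rw [CfsgLib.Signalizer.orderOf_conj, hz]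
    have hp1 : Nat.card (zpowers (⟨z, huu⟩ : N)) = 2 ^ (Nat.card N).factorization 2 := by
      rw [hNfac, Nat.card_zpowers, ← Subgroup.orderOf_coe]; exact hz
    have hp2 : Nat.card (zpowers (⟨g * z * g⁻¹, hz'⟩ : N)) = 2 ^ (Nat.card N).factorization 2 := by
      rw [hNfac, Nat.card_zpowers, ← Subgroup.orderOf_coe]; exact ho
    obtain ⟨n, hn⟩ := MulAction.exists_smul_eq N (Sylow.ofCard _ hp2) (Sylow.ofCard _ hp1)
    have hmem : n * ⟨g * z * g⁻¹, hz'⟩ * n⁻¹ ∈ zpowers (⟨z, huu⟩ : N) := by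
      have h1 := congrArg Sylow.toSubgroup hn
      simp only [Sylow.coe_subgroup_smul, Sylow.coe_ofCard] at h1
      rw [← h1]
      exact Subgroup.smul_mem_pointwise_smul _ (MulAut.conj n) _ (mem_zpowers _)
    obtain ⟨k, hk⟩ := mem_zpowers_iff.1 hmem
    have hk' : z ^ k = (n : G) * (g * z * g⁻¹) * (n : G)⁻¹ := by
      simpa using congrArg Subtype.val hk
    have hk1 : z ^ k = z := by
      rw [← zpow_mod_orderOf, hz]
      rcases Int.emod_two_eq_zero_or_one k with e | e
      · exfalso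
        rw [← zpow_mod_orderOf, hz, show ((2 : ℕ) : ℤ) = 2 from rfl, e, zpow_zero] at hk'
        have h1 : g * z * g⁻¹ = 1 := by
          calc g * z * g⁻¹ = (n : G)⁻¹ * ((n : G) * (g * z * g⁻¹) * (n : G)⁻¹) * n := by group
            _ = 1 := by rw [← hk']; group
        rw [h1, orderOf_one] at ho; omega
      · rw [show ((2 : ℕ) : ℤ) = 2 from rfl, e, zpow_one]
    refine ⟨n, n.2, mem_centralizer_singleton_iff.2 ?_⟩
    calc (n : G) * g * z = (n : G) * (g * z * g⁻¹) * (n : G)⁻¹ * ((n : G) * g) := by group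
      _ = z * ((n : G) * g) := by rw [← hk', hk1]
  set M0 := M ⊓ C with hM0
  have hM0conj : ∀ c ∈ C, ∀ m ∈ M0, c * m * c⁻¹ ∈ M0 := fun c hc m hm =>
    ⟨hM.conj_mem m hm.1 c, C.mul_mem (C.mul_mem hc hm.2) (C.inv_mem hc)⟩
  have hodd4 : ∀ m ∈ M, m ^ 4 = 1 → m = 1 := by
    intro m hm h4
    have h1 : orderOf m ∣ Nat.card M := Subgroup.orderOf_dvd_natCard M hm
    have h2 : orderOf m ∣ 4 := orderOf_dvd_of_pow_eq_one h4
    exact orderOf_eq_one_iff.1 (Nat.eq_one_of_dvd_coprimes
      (show Nat.Coprime (Nat.card M) 4 by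
        rw [show (4 : ℕ) = 2 ^ 2 by norm_num]; exact (Nat.coprime_two_right.2 hodd).pow_right 2) h1 h2)
  have hinvu : ∀ m ∈ M0, u * m * u⁻¹ = m⁻¹ := fun m hm => inverts_of_fpf M0 (hM0conj u huC)
    (fun m hm => (mem_centralizer_singleton_iff.1 hm.2).symm)
    (fun m hm h => hodd4 m hm.1 (by
      obtain ⟨k, hk⟩ := mem_zpowers_iff.1 (hCu ▸ mem_centralizer_singleton_iff.2 h.symm : m ∈ zpowers u)
      rw [← hk, ← zpow_natCast, ← zpow_mul, mul_comm, zpow_mul, zpow_natCast, ← hu4, pow_orderOf_eq_one,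
        one_zpow])) hm
  set K := C ⊓ centralizer (M0 : Set G) with hK
  have hKconj : ∀ c ∈ C, ∀ k ∈ K, c * k * c⁻¹ ∈ K := by
    intro c hc k hk
    refine ⟨C.mul_mem (C.mul_mem hc hk.1) (C.inv_mem hc), mem_centralizer_iff.2 fun m hm => ?_⟩
    have h := mem_centralizer_iff.1 hk.2 (c⁻¹ * m * c) (by
      simpa using hM0conj c⁻¹ (C.inv_mem hc) m hm)
    calc m * (c * k * c⁻¹) = c * (c⁻¹ * m * c * k) * c⁻¹ := by group
      _ = c * (k * (c⁻¹ * m * c)) * c⁻¹ := by rw [h]
      _ = c * k * c⁻¹ * m := by group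
  haveI hKn : (K.map (QuotientGroup.mk' N)).Normal := by
    refine ⟨fun y hy g => ?_⟩
    obtain ⟨k, hk, rfl⟩ := hy
    obtain ⟨g, rfl⟩ := QuotientGroup.mk'_surjective N g
    obtain ⟨n, hn, hng⟩ := hfrat g
    refine ⟨n * g * k * (n * g)⁻¹, hKconj _ hng k hk, ?_⟩
    have e1 : (QuotientGroup.mk' N) n = 1 := (QuotientGroup.eq_one_iff n).2 hn
    simp only [map_mul, map_inv, e1, one_mul]
  have hprod : ∀ c ∈ C, u * (c * u * c⁻¹) ∈ K := by
    intro c hc
    refine ⟨C.mul_mem huC (C.mul_mem (C.mul_mem hc huC) (C.inv_mem hc)), mem_centralizer_iff.2 fun m hm => ?_⟩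
    have hconj : c * u * c⁻¹ * m * (c * u * c⁻¹)⁻¹ = m⁻¹ := by
      have := hinvu (c⁻¹ * m * c) (by simpa using hM0conj c⁻¹ (C.inv_mem hc) m hm)
      calc c * u * c⁻¹ * m * (c * u * c⁻¹)⁻¹ = c * (u * (c⁻¹ * m * c) * u⁻¹) * c⁻¹ := by group
        _ = m⁻¹ := by rw [this]; group
    have e : u * (c * u * c⁻¹) * m * (u * (c * u * c⁻¹))⁻¹ = m := by
      calc u * (c * u * c⁻¹) * m * (u * (c * u * c⁻¹))⁻¹
          = u * (c * u * c⁻¹ * m * (c * u * c⁻¹)⁻¹) * u⁻¹ := by group
        _ = m := by rw [hconj, hinvu _ (M0.inv_mem hm), inv_inv]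
    exact (mul_inv_eq_iff_eq_mul.1 e).symm
  have hcu : ∀ m ∈ M0, u * m = m * u := by
    rcases hH.eq_bot_or_eq_top_of_normal _ hKn with h | h
    · exfalso
      obtain ⟨g, hg⟩ := hns
      obtain ⟨n, hn, hng⟩ := hfrat g
      apply hg
      have hmem := mem_map_of_mem (QuotientGroup.mk' N) (hprod (n * g) hng)
      rw [h, mem_bot] at hmem
      have e1 : (QuotientGroup.mk' N) n = 1 := (QuotientGroup.eq_one_iff n).2 hn
      refine (QuotientGroup.eq_one_iff _).1 ?_
      simpa only [map_mul, map_inv, e1, one_mul, QuotientGroup.mk'_apply, QuotientGroup.mk_mul,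
        QuotientGroup.mk_inv, QuotientGroup.mk_one] using hmem
    · intro m hm
      obtain ⟨k, hk, hku⟩ := (h.symm ▸ mem_top _ : (QuotientGroup.mk' N u) ∈ K.map (QuotientGroup.mk' N))
      have hn : k⁻¹ * u ∈ N := (QuotientGroup.eq_one_iff _).1 (by
        simp only [QuotientGroup.mk'_apply] at hku
        rw [QuotientGroup.mk_mul, QuotientGroup.mk_inv, hku, inv_mul_cancel])
      have hnC : k⁻¹ * u ∈ C := C.mul_mem (C.inv_mem hk.1) huC
      set n := k⁻¹ * u with hndef
      have hnm : n * m = m * n := by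
        have hidx : (M.subgroupOf N).index = 2 := by
          have h1 := (M.subgroupOf N).card_mul_index
          rw [Nat.card_congr (subgroupOfEquivOfLe hMN).toEquiv, hNM, mul_comm 2] at h1
          exact Nat.eq_of_mul_eq_mul_left Nat.card_pos h1
        have hab := commute_of_inverted M0 hinvu
        by_cases hnM : n ∈ M
        · exact hab n ⟨hnM, hnC⟩ m hm
        · have hnz : n * z ∈ M := (mul_mem_iff_of_index_two hidx (a := (⟨n, hn⟩ : N)) (b := ⟨z, huu⟩)).2
            ⟨fun h' => absurd (show n ∈ M from h') hnM, fun h' => absurd (show z ∈ M from h') hzM⟩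
          have h1 := hab (n * z) ⟨hnz, C.mul_mem hnC (mem_centralizer_singleton_iff.2 rfl)⟩ m hm
          have h2 : z * m = m * z := (mem_centralizer_singleton_iff.1 hm.2).symm
          calc n * m = n * z * m * z⁻¹ := by rw [mul_assoc n z m, h2]; group
            _ = m * n := by rw [h1]; group
      have hkm : m * k = k * m := mem_centralizer_iff.1 hk.2 m hm
      calc u * m = k * (n * m) := by rw [hndef]; group
        _ = k * m * n := by rw [hnm, mul_assoc]
        _ = m * u := by rw [← hkm, hndef]; group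
  intro m hm
  refine inverts_of_fpf M (fun a ha => hM.conj_mem a ha z) (fun a _ => by rw [hzz, one_mul, mul_one])
    (fun a ha h => ?_) hm
  have haM : a ∈ M0 := ⟨ha, mem_centralizer_singleton_iff.2 h.symm⟩
  have := hinvu a haM
  rw [hcu a haM, mul_assoc, mul_inv_cancel, mul_one] at this
  refine hodd4 a ha ?_
  calc a ^ 4 = a * a * (a * a) := by simp [pow_succ, mul_assoc]
    _ = 1 := by
      have e : a * a = 1 := by nth_rewrite 2 [this]; exact mul_inv_cancel a
      rw [e, one_mul]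

/-- The conclusion. -/
theorem Ctx.conclusion {G : Type*} [Group G] [Fintype G] [Fintype (Cfsg.IrrCharacter G)] {u : G}
    (H : Ctx u) :
    IsMulCommutative ↥(Cfsg.oddCore G) ∧
      ((Nonempty (G ⧸ Cfsg.oddCore G ≃* Matrix.ProjectiveSpecialLinearGroup (Fin 2) (ZMod 5)) ∧ orderOf u = 2) ∨
        (Nonempty (G ⧸ Cfsg.oddCore G ≃* Matrix.SpecialLinearGroup (Fin 2) (ZMod 5)) ∧ orderOf u = 4)) := by
  obtain ⟨hC, N, hN, huu, huN, h60, hCx, hsimple⟩ := H.quotient_sixty
  obtain ⟨e5⟩ := Cfsg.Agent.S0494.result (G := G ⧸ N) h60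
  obtain ⟨hA4, t, ht⟩ := alt_five_facts
  have hxclass : ∀ g : G, g ∉ N → g ^ 4 ∈ N → IsConj u g := by
    have hconjH : ∀ y : G ⧸ N, y ≠ 1 → y ^ 4 = 1 → IsConj (QuotientGroup.mk u : G ⧸ N) y := by
      intro y hy hy4
      have hx : (QuotientGroup.mk u : G ⧸ N) * QuotientGroup.mk u = 1 := by
        rw [← QuotientGroup.mk_mul]; exact (QuotientGroup.eq_one_iff _).2 huu
      have hx1 : (QuotientGroup.mk u : G ⧸ N) ≠ 1 := fun h => huN ((QuotientGroup.eq_one_iff u).1 h)
      obtain ⟨c, hc⟩ := ht (e5 (QuotientGroup.mk u)) (by rw [← map_mul, hx, map_one])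
        (fun h => hx1 (e5.injective (h.trans (map_one e5).symm)))
      obtain ⟨d, hd⟩ := ht (e5 y) (hA4 _ (by rw [← map_pow, hy4, map_one]))
        (fun h => hy (e5.injective (h.trans (map_one e5).symm)))
      refine isConj_iff.2 ⟨e5.symm (d⁻¹ * c), e5.injective ?_⟩
      simp only [map_mul, map_inv, e5.apply_symm_apply]
      calc d⁻¹ * c * e5 (QuotientGroup.mk u) * (d⁻¹ * c)⁻¹
          = d⁻¹ * (c * e5 (QuotientGroup.mk u) * c⁻¹) * d := by group
        _ = e5 y := by rw [hc, ← hd]; group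
    intro g hg hg4
    set K : Set G := {y | IsConj u y} with hK
    set K' : Set G := QuotientGroup.mk ⁻¹' {y : G ⧸ N | IsConj (QuotientGroup.mk u : G ⧸ N) y} with hK'
    have hsub : K ⊆ K' := fun y hy => by
      obtain ⟨c, hc⟩ := isConj_iff.1 (show IsConj u y from hy)
      show IsConj (QuotientGroup.mk u : G ⧸ N) (QuotientGroup.mk y)
      exact isConj_iff.2 ⟨QuotientGroup.mk c, by rw [← QuotientGroup.mk_inv, ← QuotientGroup.mk_mul, ← QuotientGroup.mk_mul, hc]⟩
    have hcK : Nat.card K * 4 = Nat.card G := by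
      rw [← hC]; exact CfsgLib.Signalizer.card_conj_class u
    have hcK' : Nat.card K' * 4 = Nat.card G := by
      have h1 : Nat.card {y : G ⧸ N | IsConj (QuotientGroup.mk u : G ⧸ N) y} * 4 = Nat.card (G ⧸ N) := by
        rw [← hCx]; exact CfsgLib.Signalizer.card_conj_class _
      rw [hK', QuotientGroup.card_preimage_mk, mul_assoc, h1, card_eq_card_quotient_mul_card_subgroup N, mul_comm]
    have hmem : g ∈ K' := hconjH _ (fun h => hg ((QuotientGroup.eq_one_iff g).1 h))
      (by rw [← QuotientGroup.mk_pow]; exact (QuotientGroup.eq_one_iff _).2 hg4)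
    have heq : K = K' := Set.eq_of_subset_of_ncard_le hsub (by
      rw [← Nat.card_coe_set_eq, ← Nat.card_coe_set_eq]; omega) (Set.toFinite _)
    rw [← heq] at hmem
    exact hmem
  have hns : ∃ g : G, u * (g * u * g⁻¹) ∉ N := by
    by_contra hcon
    push Not at hcon
    set x : G ⧸ N := QuotientGroup.mk u with hx
    have hxx : x * x = 1 := by rw [hx, ← QuotientGroup.mk_mul]; exact (QuotientGroup.eq_one_iff _).2 huu
    have htop : centralizer ({x} : Set (G ⧸ N)) = ⊤ := by
      refine (eq_top_iff' _).2 fun y => ?_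
      obtain ⟨g, rfl⟩ := QuotientGroup.mk'_surjective N y
      have h : x * ((QuotientGroup.mk g : G ⧸ N) * x * (QuotientGroup.mk g)⁻¹) = 1 := by
        rw [hx, ← QuotientGroup.mk_inv, ← QuotientGroup.mk_mul, ← QuotientGroup.mk_mul, ← QuotientGroup.mk_mul]
        exact (QuotientGroup.eq_one_iff _).2 (hcon g)
      have h' := eq_inv_of_mul_eq_one_right h
      rw [inv_eq_of_mul_eq_one_right hxx, mul_inv_eq_iff_eq_mul] at h'
      exact mem_centralizer_singleton_iff.2 h'
    rw [htop, card_top, h60] at hCx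
    omega
  haveI : (Cfsg.oddCore G).Normal := CfsgLib.Components.pPrimeCore_normal 2
  have hoddcop : (Nat.card (Cfsg.oddCore G)).Coprime 2 := CfsgLib.Components.pPrimeCore_coprime 2
  have hOle : Cfsg.oddCore G ≤ N := by
    rcases hsimple.eq_bot_or_eq_top_of_normal ((Cfsg.oddCore G).map (QuotientGroup.mk' N))
      ((inferInstance : (Cfsg.oddCore G).Normal).map _ (QuotientGroup.mk'_surjective N)) with h | h
    · intro g hg
      exact (QuotientGroup.eq_one_iff g).1 (mem_bot.1 (h ▸ mem_map_of_mem _ hg))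
    · exfalso
      have hd := card_map_dvd (Cfsg.oddCore G) (QuotientGroup.mk' N)
      rw [h, card_top, h60] at hd
      have := Nat.Coprime.coprime_dvd_left hd hoddcop
      norm_num at this
  have hord : orderOf u = 2 ∨ orderOf u = 4 := by
    have h4 : orderOf u ∣ 2 ^ 2 := by
      rw [show 2 ^ 2 = 4 from rfl, ← hC]
      exact Subgroup.orderOf_dvd_natCard _ (mem_centralizer_singleton_iff.2 rfl)
    obtain ⟨j, hj, hje⟩ := (Nat.dvd_prime_pow Nat.prime_two).1 h4
    interval_cases j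
    · exact absurd (orderOf_eq_one_iff.1 hje) H.ne
    · exact Or.inl hje
    · exact Or.inr hje
  rcases hord with hu2 | hu4
  · have hNbot := case_two H.perfect hC N hu2 huN hxclass hns hsimple h60
    have hObot : Cfsg.oddCore G = ⊥ := le_bot_iff.1 (hNbot ▸ hOle)
    refine ⟨⟨⟨fun a b => ?_⟩⟩, Or.inl ⟨?_, hu2⟩⟩
    · have ha : (a : G) = 1 := mem_bot.1 (hObot ▸ a.2)
      have hb : (b : G) = 1 := mem_bot.1 (hObot ▸ b.2)
      exact Subtype.ext (by rw [Subgroup.coe_mul, Subgroup.coe_mul, ha, hb])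
    · obtain ⟨e⟩ := nonempty_psl (Q := G ⧸ N) h60
      exact ⟨(QuotientGroup.quotientMulEquivOfEq (hObot.trans hNbot.symm)).trans e⟩
  · obtain ⟨M, hM, hMN, hModd, hNM, hMchar⟩ := sylow_kernel hC N hu4 huu huN hxclass h60
    have hOM : Cfsg.oddCore G = M := by
      refine le_antisymm (fun g hg => hMchar g (hOle hg) ?_)
        (CfsgLib.Components.le_pPrimeCore hM (Nat.coprime_two_right.2 hModd))
      exact Odd.of_dvd_nat (Nat.coprime_two_right.1 hoddcop) (Subgroup.orderOf_dvd_natCard _ hg)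
    refine ⟨⟨⟨fun a b => Subtype.ext ?_⟩⟩, Or.inr ⟨?_, hu4⟩⟩
    · exact commute_of_inverted M (inverted_by_sq hC N M hM hMN hModd hNM hu4 huu hns hsimple)
        a (hOM ▸ a.2) b (hOM ▸ b.2)
    · haveI := hM
      obtain ⟨eOM⟩ : Nonempty (G ⧸ Cfsg.oddCore G ≃* G ⧸ M) := ⟨QuotientGroup.quotientMulEquivOfEq hOM⟩
      suffices hsl : Nonempty (G ⧸ M ≃* Matrix.SpecialLinearGroup (Fin 2) (ZMod 5)) by
        obtain ⟨e⟩ := hsl
        exact ⟨eOM.trans e⟩
      set q := QuotientGroup.mk' M with hq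
      haveI : (N.map q).Normal := (inferInstance : N.Normal).map q (QuotientGroup.mk'_surjective M)
      have hNbar : Nat.card (N.map q) = 2 := by
        have h1 := relIndex_ker (K := N) q
        rw [QuotientGroup.ker_mk'] at h1
        rw [← h1, relIndex]
        have h2 := (M.subgroupOf N).card_mul_index
        rw [Nat.card_congr (subgroupOfEquivOfLe hMN).toEquiv, hNM, mul_comm 2] at h2
        exact Nat.eq_of_mul_eq_mul_left Nat.card_pos h2
      have hcard : Nat.card (G ⧸ M) = 120 := by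
        have h1 := card_eq_card_quotient_mul_card_subgroup M
        rw [card_eq_card_quotient_mul_card_subgroup N, h60, hNM, ← mul_assoc] at h1
        exact (Nat.eq_of_mul_eq_mul_right Nat.card_pos h1).symm
      have hperf : commutator (G ⧸ M) = ⊤ := by
        rw [_root_.commutator_def, ← map_top_of_surjective q (QuotientGroup.mk'_surjective M), ← map_commutator,
          ← _root_.commutator_def, H.perfect]
      have hcen : N.map q ≤ center (G ⧸ M) := by
        intro y hy
        refine mem_center_iff.2 fun g => ?_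
        by_cases hy1 : y = 1
        · simp [hy1]
        obtain ⟨a, ha⟩ := (Nat.card_eq_two_iff' (1 : N.map q)).1 hNbar
        have huniq : ∀ w ∈ N.map q, w ≠ 1 → w = (a : G ⧸ M) := fun w hw hw1 =>
          congrArg Subtype.val (ha.2 ⟨w, hw⟩ fun h => hw1 (congrArg Subtype.val h))
        have hc : g * y * g⁻¹ ≠ 1 := fun h => hy1 (conj_eq_one_iff.1 h)
        have := (huniq _ ((inferInstance : (N.map q).Normal).conj_mem y hy g) hc).trans (huniq y hy hy1).symm
        exact mul_inv_eq_iff_eq_mul.1 this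
      obtain ⟨e⟩ := CfsgLib.Recog.Zassenhaus.nonempty_sl25_of_pair hcard hperf (N.map q) hcen hNbar
        ((QuotientGroup.quotientQuotientEquivQuotient M N hMN).trans e5)
      exact ⟨e⟩

end CfsgLib.Char.MinusFour
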