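import Cfsg.Agent.Lib.Char.MinusFour.Structure
import Cfsg.Agent.Lib.CharDegree.Counting
import Cfsg.Agent.Lib.Recog.Zassenhaus.SmallRecog
import Cfsg.Agent.Lib.Classical.SmallIso
import Cfsg.Agent.S0494
import Mathlib.LinearAlgebra.Projectivization.PSL.PSL2

/-!
# The quotient by the kernel of a degree three character has order sixty

`|C(u)| = 4`, and the class multiplication formula at the image of `u` bounds the quotient by `60`.
-/

set_option autoImplicit false
set_option linter.all false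

open scoped Classical ComplexConjugate

namespace CfsgLib.Char.MinusFour

open Module CfsgLib.Char CfsgLib.CharDegree

variable {G : Type*} [Group G] [Fintype G] {u : G}

theorem card_fibre_le (x y : G) :
    (Finset.univ.filter fun a : G => a * x * a⁻¹ = y).card ≤
      Nat.card (Subgroup.centralizer ({x} : Set G)) := by
  rcases (Finset.univ.filter fun a : G => a * x * a⁻¹ = y).eq_empty_or_nonempty with he | ⟨c, hc⟩
  · rw [he]; simp
  · rw [Finset.mem_filter] at hc
    rw [Nat.card_eq_fintype_card, ← Finset.card_univ]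
    refine Finset.card_le_card_of_injOn (fun a => if h : a * x * a⁻¹ = y then
      (⟨c⁻¹ * a, Subgroup.mem_centralizer_singleton_iff.2 ?_⟩ : Subgroup.centralizer ({x} : Set G)) else 1)
      (fun a _ => Finset.mem_univ _) ?_
    · calc c⁻¹ * a * x = c⁻¹ * (a * x * a⁻¹) * a := by group
        _ = x * (c⁻¹ * a) := by rw [h, ← hc.2]; group
    · intro a ha b hb hab
      simp only [Finset.coe_filter, Finset.mem_univ, true_and, Set.mem_ofPred_eq] at ha hb
      simp only [dif_pos ha, dif_pos hb, Subtype.mk.injEq, mul_right_inj] at hab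
      exact hab

/-- The class count at an involution whose centralizer has order four. -/
theorem card_pairs_le {x : G} (hx : x * x = 1) (hx1 : x ≠ 1)
    (hC : Nat.card (Subgroup.centralizer ({x} : Set G)) = 4) :
    Nat.card {p : G × G // p.1 * x * p.1⁻¹ * (p.2 * x * p.2⁻¹ * x) = 1} ≤ 32 := by
  set C := Subgroup.centralizer ({x} : Set G) with hCdef
  set Y := ((Finset.univ.filter fun y : G => y ∈ C).erase 1).erase x with hY
  have hinv : ∀ a : G, a * x * a⁻¹ * (a * x * a⁻¹) = 1 := fun a => by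
    calc a * x * a⁻¹ * (a * x * a⁻¹) = a * (x * x) * a⁻¹ := by group
      _ = 1 := by rw [hx]; group
  have hY2 : Y.card ≤ 2 := by
    have h1 : (1 : G) ∈ Finset.univ.filter fun y : G => y ∈ C := by simp [C.one_mem]
    have h2 : x ∈ (Finset.univ.filter fun y : G => y ∈ C).erase 1 := by
      simp [hx1, hCdef, Subgroup.mem_centralizer_singleton_iff]
    have hc : (Finset.univ.filter fun y : G => y ∈ C).card = 4 := by
      rw [← hC, Nat.card_eq_fintype_card, Fintype.card_subtype]
    rw [hY, Finset.card_erase_of_mem h2, Finset.card_erase_of_mem h1, hc]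
  set A := Finset.univ.filter fun a : G => a * x * a⁻¹ ∈ Y with hA
  have hA8 : A.card ≤ 8 := by
    refine (Finset.card_le_mul_card_image A 4 (f := fun a => a * x * a⁻¹) fun y _ => ?_).trans ?_
    · exact (Finset.card_le_card (Finset.filter_subset_filter _ (Finset.subset_univ A))).trans
        ((card_fibre_le x y).trans hC.le)
    · have : (A.image fun a => a * x * a⁻¹).card ≤ Y.card :=
        Finset.card_le_card fun y hy => by
          obtain ⟨a, ha, rfl⟩ := Finset.mem_image.1 hy
          rw [hA, Finset.mem_filter] at ha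
          exact ha.2
      omega
  set S := Finset.univ.filter fun p : G × G => p.1 * x * p.1⁻¹ * (p.2 * x * p.2⁻¹ * x) = 1 with hS
  have hcardS : Nat.card {p : G × G // p.1 * x * p.1⁻¹ * (p.2 * x * p.2⁻¹ * x) = 1} = S.card := by
    rw [Nat.card_eq_fintype_card, Fintype.card_subtype]
  rw [hcardS]
  refine (Finset.card_le_mul_card_image S 4 (f := Prod.fst) fun a ha => ?_).trans ?_
  · refine (Finset.card_le_card_of_injOn Prod.snd (t := Finset.univ.filter fun b : G => b * x * b⁻¹ = a * x * a⁻¹ * x)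
      (fun p hp => ?_) ?_).trans ((card_fibre_le x _).trans hC.le)
    · simp only [hS, Finset.coe_filter, Finset.mem_univ, Finset.mem_filter, true_and, Set.mem_ofPred_eq] at hp ⊢
      obtain ⟨hp1, hp2⟩ := hp
      rw [← hp2]
      have e := eq_inv_of_mul_eq_one_right hp1
      rw [inv_eq_of_mul_eq_one_right (hinv p.1)] at e
      calc p.2 * x * p.2⁻¹ = p.2 * x * p.2⁻¹ * (x * x) := by rw [hx, mul_one]
        _ = p.1 * x * p.1⁻¹ * x := by rw [← e]; group
    · intro p hp q hq hpq
      simp only [Finset.coe_filter, Set.mem_ofPred_eq] at hp hq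
      exact Prod.ext (hp.2.trans hq.2.symm) hpq
  · have : (S.image Prod.fst).card ≤ A.card := Finset.card_le_card fun a ha => by
      obtain ⟨p, hp, rfl⟩ := Finset.mem_image.1 ha
      rw [hS, Finset.mem_filter] at hp
      have e := eq_inv_of_mul_eq_one_right hp.2
      rw [inv_eq_of_mul_eq_one_right (hinv p.1)] at e
      set y := p.1 * x * p.1⁻¹ with hy
      set z := p.2 * x * p.2⁻¹ with hz
      have ez : z = y * x := by
        calc z = z * (x * x) := by rw [hx, mul_one]
          _ = y * x := by rw [← e]; group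
      have hcomm : y * x = x * y := by
        have h1 : z * z = 1 := by rw [hz]; exact hinv p.2
        rw [ez] at h1
        calc y * x = y * x * (y * x * (x * y)) := by
              rw [show y * x * (x * y) = y * (x * x) * y by group, hx, mul_one]
              rw [show y * y = 1 from hinv p.1, mul_one]
          _ = x * y := by rw [← mul_assoc, h1, one_mul]
      simp only [hA, hY, Finset.mem_filter, Finset.mem_univ, true_and, Finset.mem_erase]
      refine ⟨fun h => ?_, fun h => ?_, Subgroup.mem_centralizer_singleton_iff.2 hcomm⟩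
      · replace h : y = x := h
        have h1 : z = 1 := by rw [ez, h, hx]
        refine hx1 ?_
        calc x = p.2⁻¹ * z * p.2 := by rw [hz]; group
          _ = 1 := by rw [h1]; group
      · replace h : y = 1 := h
        refine hx1 ?_
        calc x = p.1⁻¹ * y * p.1 := by rw [hy]; group
          _ = 1 := by rw [h]; group
    omega

variable [Fintype (Cfsg.IrrCharacter G)]

/-- `|C(u)| = 4` and `G / N` is simple of order sixty for a normal subgroup `N ∋ u²` not containing `u`. -/
theorem Ctx.quotient_sixty (H : Ctx u) :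
    Nat.card (Subgroup.centralizer ({u} : Set G)) = 4 ∧
      ∃ (N : Subgroup G) (_ : N.Normal), u * u ∈ N ∧ u ∉ N ∧ Nat.card (G ⧸ N) = 60 ∧
        Nat.card (Subgroup.centralizer ({(QuotientGroup.mk u : G ⧸ N)} : Set (G ⧸ N))) = 4 ∧
        IsSimpleGroup (G ⧸ N) := by
  obtain ⟨θ, θ', ρ, hne, hd, hd', hdρ, hv, hv', hvρ, hsq, hin, hzero⟩ := H.structure_thm
  have d1 := deg_triv (G := G)
  have n1 : trivChar G ≠ θ := ne_of_deg (by omega)
  have n2 : trivChar G ≠ θ' := ne_of_deg (by omega)
  have n3 : trivChar G ≠ ρ := ne_of_deg (by omega)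
  have n4 : θ ≠ ρ := ne_of_deg (by omega)
  have n5 : θ' ≠ ρ := ne_of_deg (by omega)
  have hsum4 : ∀ F : Cfsg.IrrCharacter G → ℂ, (∀ ψ, val u ψ = 0 → F ψ = 0) →
      ∑ ψ, F ψ = F (trivChar G) + (F θ + (F θ' + F ρ)) := by
    intro F hF
    rw [← Finset.sum_subset (Finset.subset_univ ({trivChar G, θ, θ', ρ} : Finset (Cfsg.IrrCharacter G)))
      (fun ψ _ hψ => by
        simp only [Finset.mem_insert, Finset.mem_singleton, not_or] at hψ
        exact hF ψ (hzero ψ hψ.1 hψ.2.1 hψ.2.2.1 hψ.2.2.2))]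
    rw [Finset.sum_insert (by simp [n1, n2, n3]), Finset.sum_insert (by simp [hne, n4]), Finset.sum_pair n5]
  have hC : Nat.card (Subgroup.centralizer ({u} : Set G)) = 4 := by
    have h := column_orthogonality u u
    rw [if_pos (IsConj.refl u), hsum4 _ (fun ψ hψ => by rw [H.cast_val, hψ]; simp)] at h
    simp only [H.cast_val, hv, hv', hvρ, val_triv, map_intCast] at h
    push_cast at h
    have : (Nat.card (Subgroup.centralizer ({u} : Set G)) : ℂ) = ((4 : ℕ) : ℂ) := by
      rw [← h]; norm_num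
    exact_mod_cast this
  set N := kerSubgroup θ with hNdef
  haveI hN : N.Normal := kerSubgroup_normal θ
  have hθN : ∀ g ∈ N, (θ : G → ℂ) g = (θ : G → ℂ) 1 := fun g hg => mem_kerSubgroup.1 hg
  have hρN : ∀ g ∈ N, (ρ : G → ℂ) g = (ρ : G → ℂ) 1 := fun g hg => by
    have e := hsq g
    rw [hθN g hg] at e
    linear_combination hsq 1 - e
  have hθ'N : ∀ g ∈ N, (θ' : G → ℂ) g = (θ' : G → ℂ) 1 := fun g hg =>
    apply_one_mem_kernel (isChar_prod θ ρ) hin (by simp [hθN g hg, hρN g hg])
  have hall : ∀ ψ, val u ψ ≠ 0 → ∀ g ∈ N, (ψ : G → ℂ) g = (ψ : G → ℂ) 1 := by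
    intro ψ hψ g hg
    rcases eq_or_ne ψ (trivChar G) with e | e1
    · simp [e]
    rcases eq_or_ne ψ θ with e | e2
    · rw [e]; exact hθN g hg
    rcases eq_or_ne ψ θ' with e | e3
    · rw [e]; exact hθ'N g hg
    rcases eq_or_ne ψ ρ with e | e4
    · rw [e]; exact hρN g hg
    exact absurd (hzero ψ e1 e2 e3 e4) hψ
  have huu : u * u ∈ N := mem_kerSubgroup.2 (H.sq_kernel ⟨hd, hv⟩)
  have huN : u ∉ N := fun h => by
    have e := hθN u h
    rw [H.cast_val, hv, ← cast_irrDegree, show Cfsg.charDegree (θ : G → ℂ) = 3 from hd] at e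
    norm_num at e
  refine ⟨hC, N, hN, huu, huN, ?_⟩
  haveI := Fintype.ofFinite (G ⧸ N)
  haveI := Fintype.ofFinite (Cfsg.IrrCharacter (G ⧸ N))
  set x : G ⧸ N := QuotientGroup.mk u with hx
  have hpull : ∀ F : Cfsg.IrrCharacter G → ℂ, (∀ ψ, val u ψ = 0 → F ψ = 0) →
      ∑ φ : Cfsg.IrrCharacter (G ⧸ N), F (infl N φ) = F (trivChar G) + (F θ + (F θ' + F ρ)) := by
    intro F hF
    rw [← hsum4 F hF]
    refine Fintype.sum_of_injective (infl N) (infl_injective N) _ _ (fun ψ hψ => hF ψ ?_) fun _ => rfl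
    by_contra hne0
    obtain ⟨φ, hφ⟩ := exists_infl N ψ (hall ψ hne0)
    exact hψ ⟨φ, hφ⟩
  have hx2 : x * x = 1 := (QuotientGroup.eq_one_iff (u * u)).2 huu
  have hx1 : x ≠ 1 := fun h => huN ((QuotientGroup.eq_one_iff u).1 h)
  have hCx : Nat.card (Subgroup.centralizer ({x} : Set (G ⧸ N))) = 4 := by
    have h := column_orthogonality x x
    rw [if_pos (IsConj.refl x)] at h
    have h' := hpull (fun ψ => (ψ : G → ℂ) u * conj ((ψ : G → ℂ) u)) (fun ψ hψ => by rw [H.cast_val, hψ]; simp)
    simp only [infl_apply, ← hx] at h'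
    rw [h'] at h
    simp only [H.cast_val, hv, hv', hvρ, val_triv, map_intCast] at h
    push_cast at h
    have : (Nat.card (Subgroup.centralizer ({x} : Set (G ⧸ N))) : ℂ) = ((4 : ℕ) : ℂ) := by
      rw [← h]; norm_num
    exact_mod_cast this
  have hstruct : (15 : ℕ) * Nat.card {p : (G ⧸ N) × (G ⧸ N) // p.1 * x * p.1⁻¹ * (p.2 * x * p.2⁻¹ * x) = 1} =
      8 * Nat.card (G ⧸ N) := by
    have h := CfsgLib.CharDegree.sum_three x x x
    have h' := hpull (fun ψ => (ψ : G → ℂ) u * (ψ : G → ℂ) u * (ψ : G → ℂ) u / (ψ : G → ℂ) 1)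
      (fun ψ hψ => by rw [H.cast_val, hψ]; simp)
    simp only [infl_apply, ← hx, QuotientGroup.mk_one] at h'
    rw [h'] at h
    simp only [H.cast_val, hv, hv', hvρ, val_triv, ← cast_irrDegree,
      show Cfsg.charDegree (trivChar G : G → ℂ) = 1 from d1, show Cfsg.charDegree (θ : G → ℂ) = 3 from hd,
      show Cfsg.charDegree (θ' : G → ℂ) = 3 from hd', show Cfsg.charDegree (ρ : G → ℂ) = 5 from hdρ] at h
    push_cast at h
    have : ((15 * Nat.card {p : (G ⧸ N) × (G ⧸ N) // p.1 * x * p.1⁻¹ * (p.2 * x * p.2⁻¹ * x) = 1} : ℕ) : ℂ) =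
        ((8 * Nat.card (G ⧸ N) : ℕ) : ℂ) := by
      push_cast
      rw [← h]
      ring
    exact_mod_cast this
  have hge : 44 ≤ Nat.card (G ⧸ N) := by
    have h := sum_sq_degree_of_le_ker N
    rw [← Subgroup.index_eq_card]
    have h' : ((∑ ψ : Cfsg.IrrCharacter G,
        if ∀ g ∈ N, (ψ : G → ℂ) g = (ψ : G → ℂ) 1 then deg ψ ^ 2 else 0 : ℕ) : ℂ) = (N.index : ℂ) := by
      rw [← h, Nat.cast_sum]
      exact Finset.sum_congr rfl fun ψ _ => by split_ifs <;> simp [cast_irrDegree]
    rw [← Nat.cast_inj.1 h']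
    refine le_trans (le_of_eq ?_) (Finset.sum_le_sum_of_subset
      (Finset.subset_univ ({trivChar G, θ, θ', ρ} : Finset (Cfsg.IrrCharacter G))))
    rw [Finset.sum_insert (by simp [n1, n2, n3]), Finset.sum_insert (by simp [hne, n4]), Finset.sum_pair n5,
      if_pos (fun g _ => by simp), if_pos hθN, if_pos hθ'N, if_pos hρN, d1, hd, hd', hdρ]
    norm_num
  have hle := card_pairs_le hx2 hx1 hCx
  have h4 : 4 ∣ Nat.card (G ⧸ N) := hCx ▸ Subgroup.card_subgroup_dvd_card _
  have h60 : Nat.card (G ⧸ N) = 60 := by omega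
  refine ⟨h60, hCx, ?_⟩
  haveI : Nontrivial (G ⧸ N) := ⟨⟨x, 1, hx1⟩⟩
  refine CfsgLib.Recog.Zassenhaus.isSimple_of_sixty h60 fun hs => ?_
  refine (Group.IsSolvable.commutator_lt_top_of_nontrivial (G ⧸ N)).ne ?_
  rw [commutator_def, ← Subgroup.map_top_of_surjective (QuotientGroup.mk' N) (QuotientGroup.mk'_surjective N),
    ← Subgroup.map_commutator, ← commutator_def, H.perfect]

/-- A simple group of order sixty is `PSL(2,5)`. -/
theorem nonempty_psl {Q : Type*} [Group Q] [Finite Q] [IsSimpleGroup Q] (h : Nat.card Q = 60) :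
    Nonempty (Q ≃* Matrix.ProjectiveSpecialLinearGroup (Fin 2) (ZMod 5)) := by
  haveI : Fact (Nat.Prime 5) := ⟨by norm_num⟩
  haveI : IsSimpleGroup (Matrix.ProjectiveSpecialLinearGroup (Fin 2) (ZMod 5)) :=
    Matrix.ProjectiveSpecialLinearGroup.rank_two_simple (by rw [Nat.card_zmod]; norm_num)
  have hc := CfsgLib.Classical.Two.card_PSL_two (F := ZMod 5)
  rw [ZMod.card] at hc
  rw [show Nat.gcd 2 (5 - 1) = 2 from rfl] at hc
  obtain ⟨e⟩ := Cfsg.Agent.S0494.result h
  obtain ⟨e'⟩ := Cfsg.Agent.S0494.result (G := Matrix.ProjectiveSpecialLinearGroup (Fin 2) (ZMod 5)) (by omega)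
  exact ⟨e.trans e'.symm⟩

end CfsgLib.Char.MinusFour
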