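import Cfsg.Agent.Lib.Char.MinusFour.Constituents

/-!
# `IsT` characters: a real one excludes a non-real one
-/

set_option autoImplicit false
set_option linter.all false

open scoped Classical ComplexConjugate

namespace CfsgLib.Char.MinusFour

open Module CfsgLib.Char CfsgLib.CharDegree

variable {G : Type*} [Group G] [Fintype G] {u : G} [Fintype (Cfsg.IrrCharacter G)]

/-- Two real characters have the same `ρ`, and their product contains it. -/
theorem Ctx.pair (H : Ctx u) {θ θ' ρ ρ' : Cfsg.IrrCharacter G} (h : IsT u θ) (h' : IsT u θ')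
    (hr : conjIrr θ = θ) (hr' : conjIrr θ' = θ') (hne : θ ≠ θ') (hρ5 : deg ρ = 5) (hρ5' : deg ρ' = 5)
    (hsq : ∀ g, (θ : G → ℂ) g * (θ : G → ℂ) g = 1 + (θ : G → ℂ) g + (ρ : G → ℂ) g)
    (hsq' : ∀ g, (θ' : G → ℂ) g * (θ' : G → ℂ) g = 1 + (θ' : G → ℂ) g + (ρ' : G → ℂ) g) :
    ρ = ρ' ∧ mult ((θ : G → ℂ) * (θ' : G → ℂ)) ρ = 1 := by
  have d1 := deg_triv (G := G)
  have h3 : deg θ = 3 := h.1
  have h3' : deg θ' = 3 := h'.1
  have hθ1 : θ ≠ trivChar G := ne_of_deg (by omega)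
  have hρ1 : ρ ≠ trivChar G := ne_of_deg (by omega)
  have hθρ : θ ≠ ρ := ne_of_deg (by omega)
  have hρ : ρ = ρ' := by
    by_contra hρne
    have e : Cfsg.classInner ((θ : G → ℂ) * (θ' : G → ℂ)) ((θ : G → ℂ) * (θ' : G → ℂ)) = ((1 : ℕ) : ℂ) := by
      rw [inner_mul_shift]
      have e1 : (θ : G → ℂ) * (fun g => conj ((θ : G → ℂ) g)) = (θ : G → ℂ) * (θ : G → ℂ) :=
        funext fun g => by simp [conj_real hr]
      have e2 : (fun g => conj ((θ' : G → ℂ) g)) * (θ' : G → ℂ) = (θ' : G → ℂ) * (θ' : G → ℂ) :=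
        funext fun g => by simp [conj_real hr']
      rw [e1, e2, inner_three (isChar_prod θ θ) (Ψ := (θ' : G → ℂ) * (θ' : G → ℂ)) hsq']
      have e3 : ∀ φ : Cfsg.IrrCharacter G, mult ((θ : G → ℂ) * (θ : G → ℂ)) φ =
          (if trivChar G = φ then 1 else 0) + (if θ = φ then 1 else 0) + (if ρ = φ then 1 else 0) := by
        intro φ
        apply mult_eq_of_inner
        have e' : (θ : G → ℂ) * (θ : G → ℂ) = (trivChar G : G → ℂ) + (θ : G → ℂ) + (ρ : G → ℂ) :=
          funext fun g => by simp [hsq g]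
        rw [e', classInner_add_left, classInner_add_left, classInner_irr, classInner_irr, classInner_irr]
        push_cast
        rfl
      have n1 : trivChar G ≠ θ' := ne_of_deg (by omega)
      have n2 : θ ≠ ρ' := ne_of_deg (by omega)
      have n3 : ρ ≠ θ' := ne_of_deg (by omega)
      have n4 : trivChar G ≠ ρ' := ne_of_deg (by omega)
      simp [e3, hθ1, hρ1, n1, n2, n3, n4, hne, hρne]
    have := H.two_le_norm h h' e
    omega
  subst hρ
  refine ⟨rfl, mult_eq_of_inner ?_⟩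
  have hA : ∀ (χ : Cfsg.IrrCharacter G), IsT u χ → conjIrr χ = χ → ∀ g,
      (χ : G → ℂ) (g * g) = (χ : G → ℂ) g * (χ : G → ℂ) g - 2 * (χ : G → ℂ) g := fun χ hχ hχr g => by
    have := alt_eq_conj H.perfect χ hχ.1 g
    rw [alt, conj_real hχr] at this
    linear_combination (-2 : ℂ) * this
  have key : ∀ g, ((θ : G → ℂ) g * (θ' : G → ℂ) g) * conj ((ρ : G → ℂ) g) =
      ((θ : G → ℂ) g * (θ : G → ℂ) g) * conj ((ρ : G → ℂ) g) := fun g => by
    rcases eq_or_ne ((θ : G → ℂ) g) ((θ' : G → ℂ) g) with e | e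
    · rw [e]
    · set t := (θ : G → ℂ) g with ht
      set s := (θ' : G → ℂ) g with hs
      have hst : s = 1 - t := by
        have h0 : (t - s) * (t + s - 1) = 0 := by linear_combination hsq g - hsq' g
        rcases mul_eq_zero.1 h0 with e' | e'
        · exact absurd (sub_eq_zero.1 e') e
        · linear_combination e'
      have hρ0 : (ρ : G → ℂ) g = 0 := by
        have h0 : ((θ : G → ℂ) (g * g) - (θ' : G → ℂ) (g * g)) *
            ((θ : G → ℂ) (g * g) + (θ' : G → ℂ) (g * g) - 1) = 0 := by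
          linear_combination hsq (g * g) - hsq' (g * g)
        rw [hA θ h hr g, hA θ' h' hr' g, ← ht, ← hs, hst] at h0
        have h1 : t ^ 2 - t - 1 = 0 := by
          rcases mul_eq_zero.1 h0 with e' | e'
          · exact absurd (by rw [hst]; linear_combination (-1 : ℂ) * e') e
          · linear_combination e' / 2
        linear_combination h1 - hsq g
      rw [hρ0, map_zero, mul_zero, mul_zero]
  have e1 : Cfsg.classInner ((θ : G → ℂ) * (θ' : G → ℂ)) (ρ : G → ℂ) =
      Cfsg.classInner ((θ : G → ℂ) * (θ : G → ℂ)) (ρ : G → ℂ) := by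
    simp only [Cfsg.classInner, Pi.mul_apply]
    congr 1
    exact Finset.sum_congr rfl fun g _ => key g
  have e2 : (θ : G → ℂ) * (θ : G → ℂ) = (trivChar G : G → ℂ) + (θ : G → ℂ) + (ρ : G → ℂ) :=
    funext fun g => by simp [hsq g]
  rw [e1, e2, classInner_add_left, classInner_add_left, classInner_irr_of_ne (Ne.symm hρ1),
    classInner_irr_of_ne hθρ, classInner_irr_self]
  simp

/-- The product of a real and a non-real `IsT` character. -/
theorem Ctx.mixed_product (H : Ctx u) {χ θ : Cfsg.IrrCharacter G} (h : IsT u χ) (h' : IsT u θ)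
    (hr : conjIrr θ = θ) (hχ : conjIrr χ ≠ χ) (hE : adj χ θ ≠ 0) :
    ∃ σ : Cfsg.IrrCharacter G, deg σ = 6 ∧ σ ≠ χ ∧
      mult ((θ : G → ℂ) * (χ : G → ℂ)) χ = 1 ∧ mult ((θ : G → ℂ) * (χ : G → ℂ)) σ = 1 ∧
      ∀ φ, φ ≠ χ → φ ≠ σ → mult ((θ : G → ℂ) * (χ : G → ℂ)) φ = 0 := by
  have hθχ : θ ≠ χ := fun e => hχ (e ▸ hr)
  set f := mult ((θ : G → ℂ) * (χ : G → ℂ)) with hf
  have hf0 : f (trivChar G) = 0 := by
    rw [hf, mult_prod_triv, if_neg]
    intro e
    exact hθχ (by rw [← hr, e, conjIrr_conjIrr])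
  have hfχ : f χ ≠ 0 := by
    intro h0
    apply hE
    rw [adj_apply χ (IsT.ne_triv h')]
    apply mult_eq_of_inner
    have h1 : ((f χ : ℕ) : ℂ) = Cfsg.classInner ((θ : G → ℂ) * (χ : G → ℂ)) (χ : G → ℂ) :=
      cast_mult (isChar_prod θ χ) χ
    rw [h0] at h1
    rw [h1]
    simp only [Cfsg.classInner, Pi.mul_apply, conjIrr_apply]
    congr 1
    exact Finset.sum_congr rfl fun g _ => by rw [conj_real hr]; ring
  have hd := tdeg_remove hfχ
  have hv := tval_remove (u := u) hfχ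
  rw [hf, tdeg_prod, ← hf, show deg θ = 3 from h'.1, show deg χ = 3 from h.1] at hd
  rw [hf, H.tval_prod, ← hf, h'.2, h.2] at hv
  obtain ⟨σ, hσ1, hσd, hσ5, hσv, hσz, -⟩ := H.single (f := remove f χ)
    (by rw [remove_of_ne _ (Ne.symm (IsT.ne_triv h))]; exact hf0) (by omega) (by omega)
  have hσχ : σ ≠ χ := ne_of_deg (by have := h.1; omega)
  refine ⟨σ, by omega, hσχ, ?_, by rwa [remove_of_ne _ hσχ] at hσ1,
    fun φ h1 h2 => by rw [← remove_of_ne f h1]; exact hσz φ h2⟩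
  have := hσz χ (Ne.symm hσχ)
  rw [remove_self] at this
  omega

/-- All `IsT` characters are real as soon as one is. -/
theorem Ctx.real_of_real (H : Ctx u) {θ : Cfsg.IrrCharacter G} (h' : IsT u θ) (hr : conjIrr θ = θ)
    {χ : Cfsg.IrrCharacter G} (h : IsT u χ) : conjIrr χ = χ := by
  by_contra hχ
  -- every non-real character has a real constituent in its adjoint
  have key : ∀ χ : Cfsg.IrrCharacter G, IsT u χ → conjIrr χ ≠ χ → ∀ θ ρ : Cfsg.IrrCharacter G,
      IsT u θ → conjIrr θ = θ → deg ρ = 5 → val u ρ = 1 →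
      (∀ g, (θ : G → ℂ) g * (θ : G → ℂ) g = 1 + (θ : G → ℂ) g + (ρ : G → ℂ) g) →
      adj χ θ ≠ 0 ∧ adj χ ρ = 0 := by
    intro χ h hχ θ ρ h' hr hρ hρv hsq
    have hθ1 : θ ≠ trivChar G := IsT.ne_triv h'
    have hρ1 : ρ ≠ trivChar G := ne_of_deg (by rw [hρ, deg_triv]; omega)
    have hN : Cfsg.classInner ((χ : G → ℂ) * (θ : G → ℂ)) ((χ : G → ℂ) * (θ : G → ℂ)) =
        ((1 + adj χ θ + adj χ ρ : ℕ) : ℂ) := by
      rw [inner_mul_shift]
      rw [inner_three (θ := θ) (ρ := ρ) (IsChar.mul (IsIrr.isCharacter χ.2) (IsChar.conj (IsIrr.isCharacter χ.2)))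
        (fun g => by simp [conj_real hr, hsq g])]
      congr 1
      rw [adj_apply χ hθ1, adj_apply χ hρ1]
      show mult ((χ : G → ℂ) * (conjIrr χ : G → ℂ)) (trivChar G) +
        mult ((χ : G → ℂ) * (conjIrr χ : G → ℂ)) θ + mult ((χ : G → ℂ) * (conjIrr χ : G → ℂ)) ρ = _
      rw [mult_adjoint_triv]
    have h2 := H.two_le_norm h h' hN
    have hρ0 : adj χ ρ = 0 := by
      by_contra hE
      obtain ⟨hD, hV⟩ := H.adj_data h
      have hd := tdeg_remove hE
      have hv := tval_remove (u := u) hE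
      obtain ⟨θ₁, hθ₁, hT₁⟩ := H.exists_neg (f := remove (adj χ) ρ) (by omega)
      have hd₁ := tdeg_remove hθ₁
      have hv₁ := tval_remove (u := u) hθ₁
      have hd3 : deg θ₁ = 3 := hT₁.1
      have hz := H.eq_zero_of_tdeg (f := remove (remove (adj χ) ρ) θ₁)
        (by have := remove_le (remove (adj χ) ρ) θ₁ (trivChar G)
            have := remove_le (adj χ) ρ (trivChar G)
            have := adj_triv χ
            omega) (by omega)
      have hθ₁1 := IsT.ne_triv hT₁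
      have hne₁ : θ₁ ≠ ρ := ne_of_deg (by omega)
      have hr₁ : conjIrr θ₁ = θ₁ := by
        by_contra hc
        have h1 : adj χ (conjIrr θ₁) ≠ 0 := by
          rw [adj_conjIrr χ θ₁ hθ₁1]
          rwa [remove_of_ne _ hne₁] at hθ₁
        apply h1
        have := hz (conjIrr θ₁)
        rwa [remove_of_ne _ hc, remove_of_ne _ (ne_of_deg (by rw [deg_conjIrr]; omega))] at this
      have hpt : ∀ g, (χ : G → ℂ) g * conj ((χ : G → ℂ) g) =
          1 + (θ₁ : G → ℂ) g + (ρ : G → ℂ) g := fun g => by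
        rw [tfun_adj, tfun_remove hE, tfun_remove hθ₁, tfun_of_zero hz]; ring
      obtain ⟨ρ₁, hρ₁, hρ₁v, hsq₁, -⟩ := H.exists_rho hT₁ hr₁
      have hρe : ρ = ρ₁ := by
        rcases eq_or_ne θ θ₁ with e | e
        · subst e
          refine irr_ext fun g => ?_
          linear_combination hsq₁ g - hsq g
        · exact (H.pair h' hT₁ hr hr₁ e hρ hρ₁ hsq hsq₁).1
      subst hρe
      have hE₁ : adj χ θ₁ ≠ 0 := by rwa [remove_of_ne _ hne₁] at hθ₁
      obtain ⟨σ, hσd, hσχ, m1, m2, m0⟩ := H.mixed_product h hT₁ hr₁ hχ hE₁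
      have e1 : Cfsg.classInner ((θ₁ : G → ℂ) * (χ : G → ℂ)) ((θ₁ : G → ℂ) * (χ : G → ℂ)) =
          ((2 : ℕ) : ℂ) := by
        rw [inner_eq_sum_mult (isChar_prod θ₁ χ) (isChar_prod θ₁ χ)]
        congr 1
        rw [← Finset.sum_subset (Finset.subset_univ ({χ, σ} : Finset (Cfsg.IrrCharacter G)))
          (fun φ _ hφ => by
            simp only [Finset.mem_insert, Finset.mem_singleton, not_or] at hφ
            rw [m0 φ hφ.1 hφ.2, mul_zero]),
          Finset.sum_pair (Ne.symm hσχ), m1, m2]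
      have e2 : Cfsg.classInner ((θ₁ : G → ℂ) * (χ : G → ℂ)) ((θ₁ : G → ℂ) * (χ : G → ℂ)) =
          Cfsg.classInner ((θ₁ : G → ℂ) * (θ₁ : G → ℂ)) ((θ₁ : G → ℂ) * (θ₁ : G → ℂ)) := by
        simp only [Cfsg.classInner, Pi.mul_apply, map_mul, conj_real hr₁]
        congr 1
        refine Finset.sum_congr rfl fun g _ => ?_
        linear_combination (θ₁ : G → ℂ) g * (θ₁ : G → ℂ) g * hpt g -
          (θ₁ : G → ℂ) g * (θ₁ : G → ℂ) g * hsq₁ g
      have e3 : Cfsg.classInner ((θ₁ : G → ℂ) * (θ₁ : G → ℂ)) ((θ₁ : G → ℂ) * (θ₁ : G → ℂ)) =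
          ((3 : ℕ) : ℂ) := by
        have e' : (θ₁ : G → ℂ) * (θ₁ : G → ℂ) = (trivChar G : G → ℂ) + (θ₁ : G → ℂ) + (ρ : G → ℂ) :=
          funext fun g => by simp [hsq₁ g]
        rw [inner_three (isChar_prod θ₁ θ₁) (Ψ := (θ₁ : G → ℂ) * (θ₁ : G → ℂ)) hsq₁]
        have n1 : trivChar G ≠ θ₁ := Ne.symm hθ₁1
        have n2 : θ₁ ≠ trivChar G := hθ₁1
        have n3 : ρ ≠ trivChar G := hρ1
        have hm : ∀ φ : Cfsg.IrrCharacter G, mult ((θ₁ : G → ℂ) * (θ₁ : G → ℂ)) φ =
            (if trivChar G = φ then 1 else 0) + (if θ₁ = φ then 1 else 0) + (if ρ = φ then 1 else 0) := by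
          intro φ
          apply mult_eq_of_inner
          rw [e', classInner_add_left, classInner_add_left, classInner_irr, classInner_irr, classInner_irr]
          push_cast
          rfl
        simp [hm, n1, n2, n3, hne₁, Ne.symm hne₁, Ne.symm n3]
      rw [e1, e3] at e2
      have : (2 : ℕ) = 3 := by exact_mod_cast e2
      omega
    exact ⟨by omega, hρ0⟩
  obtain ⟨ρ, hρ, hρv, hsq, -⟩ := H.exists_rho h' hr
  obtain ⟨hEθ, hEρ⟩ := key χ h hχ θ ρ h' hr hρ hρv hsq
  -- `θ` is the only real one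
  have huniq : ∀ θ' : Cfsg.IrrCharacter G, IsT u θ' → conjIrr θ' = θ' → θ' = θ := by
    intro θ' hT hr'
    by_contra hne
    obtain ⟨ρ', hρ', hρv', hsq', -⟩ := H.exists_rho hT hr'
    have hE' := (key χ h hχ θ' ρ' hT hr' hρ' hρv' hsq').1
    obtain ⟨hD, hV⟩ := H.adj_data h
    have hd := tdeg_remove hEθ
    have hv := tval_remove (u := u) hEθ
    have hE'' : remove (adj χ) θ θ' ≠ 0 := by rwa [remove_of_ne _ hne]
    have hd' := tdeg_remove hE''
    have hv' := tval_remove (u := u) hE''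
    have a1 := h'.1; have a2 := h'.2; have b1 := hT.1; have b2 := hT.2
    obtain ⟨ψ, -, h5, hle, -⟩ := exists_pos_le (u := u) (f := remove (remove (adj χ) θ) θ')
      (by have := remove_le (remove (adj χ) θ) θ' (trivChar G)
          have := remove_le (adj χ) θ (trivChar G)
          have := adj_triv χ
          omega) (by omega)
    omega
  obtain ⟨hD, hV⟩ := H.adj_data h
  have hd := tdeg_remove hEθ
  have hv := tval_remove (u := u) hEθ
  have a1 := h'.1; have a2 := h'.2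
  obtain ⟨η, hη1, hηd, -, hηv, -, -⟩ := H.single (f := remove (adj χ) θ)
    (by rw [remove_of_ne _ (Ne.symm (IsT.ne_triv h'))]; exact adj_triv χ) (by omega) (by omega)
  have hηθ : η ≠ θ := ne_of_deg (by omega)
  rw [remove_of_ne _ hηθ] at hη1
  have hηρ : η ≠ ρ := fun e => by rw [e, hEρ] at hη1; omega
  have hη5 : deg η = 5 := by omega
  obtain ⟨φ, hφ, hφT⟩ := H.exists_neg (f := mult ((θ : G → ℂ) * (η : G → ℂ)))
    (by rw [H.tval_prod, h'.2]; omega)
  have hb : mult ((θ : G → ℂ) * (φ : G → ℂ)) η ≠ 0 := by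
    intro h0
    apply hφ
    apply mult_eq_of_inner
    have h1 : ((mult ((θ : G → ℂ) * (φ : G → ℂ)) η : ℕ) : ℂ) =
        Cfsg.classInner ((θ : G → ℂ) * (φ : G → ℂ)) (η : G → ℂ) := cast_mult (isChar_prod θ φ) η
    rw [h0] at h1
    have h2 : Cfsg.classInner ((θ : G → ℂ) * (η : G → ℂ)) (φ : G → ℂ) =
        conj (Cfsg.classInner ((θ : G → ℂ) * (φ : G → ℂ)) (η : G → ℂ)) := by
      simp only [Cfsg.classInner, Pi.mul_apply, map_mul, map_sum, map_inv₀, map_natCast,
        Complex.conj_conj, conj_real hr]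
      congr 1
      exact Finset.sum_congr rfl fun g _ => by ring
    rw [h2, ← h1]; simp
  by_cases hφr : conjIrr φ = φ
  · have := huniq φ hφT hφr
    subst this
    have e' : (φ : G → ℂ) * (φ : G → ℂ) = (trivChar G : G → ℂ) + (φ : G → ℂ) + (ρ : G → ℂ) :=
      funext fun g => by simp [hsq g]
    apply hb
    apply mult_eq_of_inner
    rw [e', classInner_add_left, classInner_add_left, classInner_irr_of_ne, classInner_irr_of_ne (Ne.symm hηθ),
      classInner_irr_of_ne (Ne.symm hηρ)]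
    · simp
    · exact ne_of_deg (by rw [deg_triv, hη5]; omega)
  · have hEφ := (key φ hφT hφr θ ρ h' hr hρ hρv hsq).1
    obtain ⟨σ, hσd, -, -, -, m0⟩ := H.mixed_product hφT h' hr hφr hEφ
    exact hb (m0 η (ne_of_deg (by rw [hη5, hφT.1]; omega)) (ne_of_deg (by rw [hη5, hσd]; omega)))

end CfsgLib.Char.MinusFour
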