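import Cfsg.Agent.Lib.Char.MinusFour.RealCase

/-!
# The characters that do not vanish at `u`

They are `1, θ, θ', ρ` of degrees `1, 3, 3, 5`.
-/

set_option autoImplicit false
set_option linter.all false

open scoped Classical ComplexConjugate

namespace CfsgLib.Char.MinusFour

open Module CfsgLib.Char CfsgLib.CharDegree

variable {G : Type*} [Group G] [Fintype G] {u : G} [Fintype (Cfsg.IrrCharacter G)]

/-- A degree two character gives a real `IsT` character. -/
theorem Ctx.no_two (H : Ctx u) (hnr : ∀ χ : Cfsg.IrrCharacter G, IsT u χ → conjIrr χ ≠ χ)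
    (ξ : Cfsg.IrrCharacter G) : deg ξ ≠ 2 := by
  intro h2
  have d1 := deg_triv (G := G)
  have h0 : mult ((ξ : G → ℂ) * (conjIrr ξ : G → ℂ)) (trivChar G) ≠ 0 := by
    rw [mult_adjoint_triv]; omega
  have hd := tdeg_remove h0
  have hv := tval_remove (u := u) h0
  rw [tdeg_prod, deg_conjIrr, h2, d1] at hd
  rw [H.tval_prod, H.val_conjIrr, H.val_two h2, val_triv] at hv
  obtain ⟨θ, hθ, hT⟩ := H.exists_neg (f := adj ξ) (by unfold adj; omega)
  have hd' := tdeg_remove hθ
  have hθd := hT.1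
  unfold adj at hd'
  have hz := H.eq_zero_of_tdeg (f := remove (adj ξ) θ)
    (by have := remove_le (adj ξ) θ (trivChar G); have := adj_triv ξ; omega) (by unfold adj; omega)
  apply hnr θ hT
  by_contra hc
  have := hz (conjIrr θ)
  rw [remove_of_ne _ hc, adj_conjIrr ξ θ (IsT.ne_triv hT)] at this
  exact hθ this

/-- A degree four character with value zero and `u²` in the kernel gives a real `IsT` character. -/
theorem Ctx.no_four (H : Ctx u) (hnr : ∀ χ : Cfsg.IrrCharacter G, IsT u χ → conjIrr χ ≠ χ)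
    (V : Cfsg.IrrCharacter G) (h4 : deg V = 4) (hv0 : val u V = 0)
    (hker : (V : G → ℂ) (u * u) = (V : G → ℂ) 1) : False := by
  have hA := isCharacter_alt (IsIrr.isCharacter V.2)
  have hV1 : (V : G → ℂ) 1 = 4 := by rw [← cast_irrDegree, show Cfsg.charDegree (V : G → ℂ) = 4 from h4]; norm_num
  have hD : tdeg (mult (alt (V : G → ℂ))) = 6 :=
    tdeg_mult hA (by simp only [alt, mul_one, hV1]; norm_num)
  have hval : tval u (mult (alt (V : G → ℂ))) = -2 :=
    H.tval_mult hA (by simp only [alt, hker, hV1, H.cast_val, hv0]; norm_num)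
  have hsym : ∀ g, conj (alt (V : G → ℂ) g) = alt (V : G → ℂ) g := fun g =>
    (alt_deg_four H.perfect V h4 g).1
  obtain ⟨ψ, hψ, hT⟩ := H.exists_neg (f := mult (alt (V : G → ℂ))) (by omega)
  have hne : conjIrr ψ ≠ ψ := hnr ψ hT
  have hψ' : remove (mult (alt (V : G → ℂ))) ψ (conjIrr ψ) ≠ 0 := by
    rw [remove_of_ne _ hne, mult_conjIrr hA hsym]; exact hψ
  have hd := tdeg_remove hψ
  have hd' := tdeg_remove hψ'
  rw [show deg ψ = 3 from hT.1] at hd
  rw [deg_conjIrr, show deg ψ = 3 from hT.1] at hd'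
  have hz : ∀ φ, remove (remove (mult (alt (V : G → ℂ))) ψ) (conjIrr ψ) φ = 0 := fun φ => by
    by_contra hc
    have := le_tdeg (remove (remove (mult (alt (V : G → ℂ))) ψ) (conjIrr ψ)) φ
    have : 1 * 1 ≤ remove (remove (mult (alt (V : G → ℂ))) ψ) (conjIrr ψ) φ * deg φ :=
      Nat.mul_le_mul (by omega) (charDegree_pos φ)
    omega
  have hpt : ∀ g, alt (V : G → ℂ) g = (ψ : G → ℂ) g + conj ((ψ : G → ℂ) g) := fun g => by
    rw [← tfun_mult hA g, tfun_remove hψ, tfun_remove hψ', tfun_of_zero hz, conjIrr_apply]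
    ring
  have hid : ∀ g, (V : G → ℂ) g * (conjIrr V : G → ℂ) g =
      1 + (ψ : G → ℂ) g + (conjIrr ψ : G → ℂ) g + (ψ : G → ℂ) g * (conjIrr ψ : G → ℂ) g := fun g => by
    have e := (alt_deg_four H.perfect V h4 g).2
    have a := alt_eq_conj H.perfect ψ hT.1 g
    have b := congrArg conj a
    simp only [alt, map_div₀, map_sub, map_mul, map_ofNat, Complex.conj_conj] at a b
    rw [hpt g, hpt (g * g)] at e
    simp only [conjIrr_apply]
    linear_combination (-(1 : ℂ) / 2) * e + a + b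
  have e1 : Cfsg.classInner ((V : G → ℂ) * (conjIrr V : G → ℂ)) (trivChar G : G → ℂ) = ((1 : ℕ) : ℂ) := by
    rw [← cast_mult (isChar_prod _ _), mult_adjoint_triv]
  have e2 : (V : G → ℂ) * (conjIrr V : G → ℂ) = (trivChar G : G → ℂ) + (ψ : G → ℂ) + (conjIrr ψ : G → ℂ) +
      (ψ : G → ℂ) * (conjIrr ψ : G → ℂ) := funext fun g => by
    simp only [Pi.mul_apply, Pi.add_apply, hid g, trivChar_apply]
  rw [e2, classInner_add_left, classInner_add_left, classInner_add_left, classInner_irr_self,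
    classInner_irr_of_ne (IsT.ne_triv hT), classInner_irr_of_ne (IsT.ne_triv (H.isT_conjIrr hT)),
    ← cast_mult (isChar_prod _ _), mult_adjoint_triv] at e1
  norm_num at e1

/-- Without real `IsT` characters the adjoint is irreducible. -/
theorem Ctx.adj_irr (H : Ctx u) (hnr : ∀ χ : Cfsg.IrrCharacter G, IsT u χ → conjIrr χ ≠ χ)
    {χ : Cfsg.IrrCharacter G} (h : IsT u χ) :
    ∃ e : Cfsg.IrrCharacter G, deg e = 8 ∧ val u e = 0 ∧ ∀ g,
      (χ : G → ℂ) g * conj ((χ : G → ℂ) g) = 1 + (e : G → ℂ) g := by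
  obtain ⟨hD, hV⟩ := H.adj_data h
  have h0 := adj_triv χ
  have hnoT : ∀ ψ, adj χ ψ ≠ 0 → ¬ IsT u ψ := fun ψ hψ hT => by
    have hne := hnr ψ hT
    have hψ' : remove (adj χ) ψ (conjIrr ψ) ≠ 0 := by
      rw [remove_of_ne _ hne, adj_conjIrr χ ψ (IsT.ne_triv hT)]; exact hψ
    have hd := tdeg_remove hψ
    have hv := tval_remove (u := u) hψ
    have hd' := tdeg_remove hψ'
    have hv' := tval_remove (u := u) hψ'
    have a1 := hT.1; have a2 := hT.2
    have b1 := (H.isT_conjIrr hT).1; have b2 := (H.isT_conjIrr hT).2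
    obtain ⟨φ, -, h5, hle, -⟩ := exists_pos_le (u := u) (f := remove (remove (adj χ) ψ) (conjIrr ψ))
      (by have := remove_le (remove (adj χ) ψ) (conjIrr ψ) (trivChar G)
          have := remove_le (adj χ) ψ (trivChar G)
          omega) (by omega)
    omega
  have hzero : ∀ ψ, adj χ ψ ≠ 0 → val u ψ = 0 := by
    intro ψ hψ
    have hnn : ∀ φ ∈ (Finset.univ : Finset (Cfsg.IrrCharacter G)), 0 ≤ (adj χ φ : ℤ) * val u φ := fun φ _ => by
      by_cases hφ : adj χ φ = 0
      · simp [hφ]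
      · exact mul_nonneg (Int.natCast_nonneg _) (H.val_nonneg (fun e => hφ (e ▸ h0)) (hnoT φ hφ))
    rcases mul_eq_zero.1 ((Finset.sum_eq_zero_iff_of_nonneg hnn).1 hV ψ (Finset.mem_univ ψ)) with e | e
    · exact absurd (by exact_mod_cast e) hψ
    · exact e
  have heven : ∀ ψ, adj χ ψ ≠ 0 → deg ψ = 8 := by
    intro ψ hψ
    have hne : ψ ≠ trivChar G := fun e => hψ (e ▸ h0)
    have hk : (ψ : G → ℂ) (u * u) = (ψ : G → ℂ) 1 := by
      refine apply_one_mem_kernel (isChar_prod χ (conjIrr χ)) (ψ := ψ) (by rwa [← adj_apply χ hne]) ?_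
      simp only [Pi.mul_apply, conjIrr_apply, H.sq_kernel h]
    obtain ⟨k, hk'⟩ := exists_parity H.perfect ψ hk
    rw [H.cast_val, hzero ψ hψ] at hk'
    have hdk : deg ψ = 2 * k := by
      have : ((deg ψ : ℕ) : ℂ) = ((2 * k : ℕ) : ℂ) := by push_cast at hk' ⊢; linear_combination hk'
      exact_mod_cast this
    have hd := tdeg_remove hψ
    have h2 := H.two_le hne
    rcases (show deg ψ = 2 ∨ deg ψ = 4 ∨ deg ψ = 6 ∨ deg ψ = 8 by omega) with e | e | e | e
    · exact absurd e (H.no_two hnr ψ)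
    · exact (H.no_four hnr ψ e (hzero ψ hψ) hk).elim
    · exfalso
      obtain ⟨φ, hφ⟩ : ∃ φ, remove (adj χ) ψ φ ≠ 0 := by
        by_contra hc; push Not at hc; rw [tdeg_of_zero hc] at hd; omega
      have hφ1 : φ ≠ trivChar G := fun e' => hφ (by
        have := remove_le (adj χ) ψ (trivChar G); rw [e']; omega)
      have h2' := H.two_le hφ1
      have := le_tdeg (remove (adj χ) ψ) φ
      have := Nat.le_mul_of_pos_left (deg φ) (show 0 < remove (adj χ) ψ φ by omega)
      exact H.no_two hnr φ (by omega)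
    · exact e
  obtain ⟨e, he⟩ : ∃ e, adj χ e ≠ 0 := by
    by_contra hc; push Not at hc; rw [tdeg_of_zero hc] at hD; omega
  have hd := tdeg_remove he
  have hz := H.eq_zero_of_tdeg (f := remove (adj χ) e)
    (by have := remove_le (adj χ) e (trivChar G); omega) (by have := heven e he; omega)
  exact ⟨e, heven e he, hzero e he, fun g => by rw [tfun_adj, tfun_remove he, tfun_of_zero hz]; ring⟩

/-- There is a real `IsT` character. -/
theorem Ctx.exists_real (H : Ctx u) : ∃ θ : Cfsg.IrrCharacter G, IsT u θ ∧ conjIrr θ = θ := by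
  by_contra hc
  push Not at hc
  have hsum := H.sum_deg_val
  obtain ⟨χ, -, hχ⟩ := H.exists_neg (f := fun ψ => if ψ = trivChar G then 0 else deg ψ) (by
    unfold tval
    rw [← Finset.add_sum_erase _ _ (Finset.mem_univ (trivChar G))]
    simp only []
    rw [if_pos trivial,
      Finset.sum_congr rfl fun ψ hψ => by rw [if_neg (Finset.ne_of_mem_erase hψ)]]
    rw [← Finset.add_sum_erase _ _ (Finset.mem_univ (trivChar G)), deg_triv, val_triv] at hsum
    omega)
  obtain ⟨e, he8, hev, hadj⟩ := H.adj_irr hc hχ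
  set T := Finset.univ.filter fun ψ : Cfsg.IrrCharacter G => IsT u ψ with hT
  set T' := T.erase (conjIrr χ) with hT'
  have hmem' : ∀ ψ ∈ T', IsT u ψ ∧ ψ ≠ conjIrr χ := fun ψ hψ => by
    rw [hT', hT, Finset.mem_erase, Finset.mem_filter] at hψ
    exact ⟨hψ.2.2, hψ.1⟩
  have hprod0 : ∀ ψ ∈ T', mult ((χ : G → ℂ) * (ψ : G → ℂ)) (trivChar G) = 0 := fun ψ hψ => by
    rw [mult_prod_triv, if_neg]
    intro e'
    exact (hmem' ψ hψ).2 (by rw [e', conjIrr_conjIrr])
  have hpick : ∀ ψ ∈ T', ∃ c : Cfsg.IrrCharacter G, mult ((χ : G → ℂ) * (ψ : G → ℂ)) c ≠ 0 ∧ 5 ≤ deg c ∧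
      val u c = (deg c : ℤ) - 4 ∧ (ψ = χ → deg c = 6) := by
    intro ψ hψ
    have hψT := (hmem' ψ hψ).1
    by_cases hψχ : ψ = χ
    · rw [hψχ] at hψ ⊢
      have hcne : conjIrr χ ≠ trivChar G := IsT.ne_triv (H.isT_conjIrr hχ)
      have hf : mult ((χ : G → ℂ) * (χ : G → ℂ)) (conjIrr χ) ≠ 0 := by
        intro h0
        have hs := isCharacter_sym (IsIrr.isCharacter χ.2)
        have ha := isCharacter_alt (IsIrr.isCharacter χ.2)
        have e' : Cfsg.classInner ((χ : G → ℂ) * (χ : G → ℂ)) (conjIrr χ : G → ℂ) =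
            Cfsg.classInner (alt (χ : G → ℂ)) (conjIrr χ : G → ℂ) +
              Cfsg.classInner (sym (χ : G → ℂ)) (conjIrr χ : G → ℂ) := by
          rw [← classInner_add_left]
          congr 1
          funext g
          simp only [Pi.mul_apply, Pi.add_apply, alt, sym]
          ring
        have e2 : alt (χ : G → ℂ) = (conjIrr χ : G → ℂ) := funext fun g => by
          rw [alt_eq_conj H.perfect χ hχ.1 g, conjIrr_apply]
        rw [e2, classInner_irr_self, ← cast_mult hs, ← cast_mult (isChar_prod χ χ), h0] at e'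
        have : 0 = 1 + mult (sym (χ : G → ℂ)) (conjIrr χ) := by exact_mod_cast e'
        omega
      have hd := tdeg_remove hf
      have hv := tval_remove (u := u) hf
      rw [tdeg_prod, deg_conjIrr, show deg χ = 3 from hχ.1] at hd
      rw [H.tval_prod, H.val_conjIrr, hχ.2] at hv
      obtain ⟨c, hc1, hcd, hc5, hcv, -, -⟩ := H.single (f := remove (mult ((χ : G → ℂ) * (χ : G → ℂ))) (conjIrr χ))
        (by rw [remove_of_ne _ (Ne.symm hcne)]; exact hprod0 χ hψ) (by omega) (by omega)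
      refine ⟨c, ?_, hc5, hcv, fun _ => by omega⟩
      have := remove_le (mult ((χ : G → ℂ) * (χ : G → ℂ))) (conjIrr χ) c
      omega
    · obtain ⟨c, h1, -, h5, hv⟩ := exists_pos (u := u) (hprod0 ψ hψ)
        (by rw [H.tval_prod, hχ.2, hψT.2]; norm_num)
      exact ⟨c, h1, h5, hv, fun e' => absurd e' hψχ⟩
  choose c hc1 hc5 hcv hc6 using hpick
  have hinj : ∀ a (ha : a ∈ T') b (hb : b ∈ T'), c a ha = c b hb → a = b := by
    intro a ha b hb hab
    by_contra hne
    have haT := (hmem' a ha).1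
    have hbT := (hmem' b hb).1
    have hpos : Cfsg.classInner ((χ : G → ℂ) * (a : G → ℂ)) ((χ : G → ℂ) * (b : G → ℂ)) ≠ 0 := by
      rw [inner_eq_sum_mult (isChar_prod χ a) (isChar_prod χ b), Nat.cast_ne_zero]
      intro h0
      have := (Finset.sum_eq_zero_iff.1 h0) (c a ha) (Finset.mem_univ _)
      rcases Nat.mul_eq_zero.1 this with h1 | h1
      · exact hc1 a ha h1
      · exact hc1 b hb (hab ▸ h1)
    apply hpos
    rw [inner_mul_shift]
    have e1 : (χ : G → ℂ) * (fun g => conj ((χ : G → ℂ) g)) = (trivChar G : G → ℂ) + (e : G → ℂ) :=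
      funext fun g => by simp [hadj g]
    have e2 : (fun g => conj ((a : G → ℂ) g)) * (b : G → ℂ) = (conjIrr a : G → ℂ) * (b : G → ℂ) := rfl
    rw [e1, e2, classInner_add_left, ← classInner_conj_symm ((conjIrr a : G → ℂ) * (b : G → ℂ)) (trivChar G : G → ℂ),
      ← classInner_conj_symm ((conjIrr a : G → ℂ) * (b : G → ℂ)) (e : G → ℂ),
      ← cast_mult (isChar_prod _ _), ← cast_mult (isChar_prod _ _)]
    have z1 : mult ((conjIrr a : G → ℂ) * (b : G → ℂ)) (trivChar G) = 0 := by
      rw [mult_prod_triv, if_neg]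
      intro e'
      exact hne (by rw [← conjIrr_conjIrr a, e', conjIrr_conjIrr])
    have z2 : mult ((conjIrr a : G → ℂ) * (b : G → ℂ)) e = 0 := by
      by_contra he0
      have hd := tdeg_remove he0
      have hv := tval_remove (u := u) he0
      rw [tdeg_prod, deg_conjIrr, show deg a = 3 from haT.1, show deg b = 3 from hbT.1] at hd
      rw [H.tval_prod, H.val_conjIrr, haT.2, hbT.2] at hv
      have hz := H.eq_zero_of_tdeg (f := remove (mult ((conjIrr a : G → ℂ) * (b : G → ℂ))) e)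
        (by have := remove_le (mult ((conjIrr a : G → ℂ) * (b : G → ℂ))) e (trivChar G); omega) (by omega)
      rw [tval_of_zero hz] at hv
      omega
    rw [z1, z2]; simp
  -- the weighted count
  have hbound : ∀ a (ha : a ∈ T'), (5 : ℤ) + (if a = χ then 7 else 0) ≤ (deg (c a ha) : ℤ) * val u (c a ha) := by
    intro a ha
    rw [hcv a ha]
    split_ifs with h1
    · rw [hc6 a ha h1]; norm_num
    · have : (5 : ℤ) ≤ (deg (c a ha) : ℤ) := by exact_mod_cast hc5 a ha
      nlinarith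
  set S := T'.attach.image (fun a => c a.1 a.2) with hS
  have hS5 : ∀ x ∈ S, 5 ≤ deg x := fun x hx => by
    obtain ⟨a, -, rfl⟩ := Finset.mem_image.1 hx
    exact hc5 a.1 a.2
  have hdisjT : Disjoint T S := Finset.disjoint_left.2 fun x hx hx' => by
    have := hS5 x hx'
    rw [hT, Finset.mem_filter] at hx
    have := hx.2.1
    omega
  have htriv : trivChar G ∉ T ∪ S := fun h => by
    rcases Finset.mem_union.1 h with h | h
    · rw [hT, Finset.mem_filter] at h
      exact IsT.ne_triv h.2 rfl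
    · have := hS5 _ h
      rw [deg_triv] at this; omega
  have hle : ∑ x ∈ insert (trivChar G) (T ∪ S), (deg x : ℤ) * val u x ≤
      ∑ x : Cfsg.IrrCharacter G, (deg x : ℤ) * val u x := by
    refine Finset.sum_le_sum_of_subset_of_nonneg (Finset.subset_univ _) fun x _ hx => ?_
    simp only [Finset.mem_insert, Finset.mem_union, not_or] at hx
    exact mul_nonneg (Int.natCast_nonneg _) (H.val_nonneg hx.1 fun hxT => hx.2.1 (by simp [hT, hxT]))
  rw [hsum, Finset.sum_insert htriv, Finset.sum_union hdisjT, deg_triv, val_triv,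
    Finset.sum_congr rfl (g := fun _ => (-3 : ℤ)) (fun x hx => by
      rw [hT, Finset.mem_filter] at hx
      rw [hx.2.1, hx.2.2]; norm_num), Finset.sum_const] at hle
  have hSsum : ∑ a ∈ T'.attach, ((5 : ℤ) + (if a.1 = χ then 7 else 0)) ≤ ∑ x ∈ S, (deg x : ℤ) * val u x := by
    rw [hS, Finset.sum_image fun a _ b _ hab => Subtype.ext (hinj a.1 a.2 b.1 b.2 hab)]
    exact Finset.sum_le_sum fun a _ => hbound a.1 a.2
  have hχT' : χ ∈ T' := by simp [hT', hT, hχ, Ne.symm (hc χ hχ)]
  rw [Finset.sum_attach T' (fun a => (5 : ℤ) + (if a = χ then 7 else 0)), Finset.sum_add_distrib,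
    Finset.sum_const, Finset.sum_ite_eq' T' χ, if_pos hχT'] at hSsum
  have hcard : T'.card + 1 = T.card := Finset.card_erase_add_one (by simp [hT, H.isT_conjIrr hχ])
  simp only [nsmul_eq_mul] at hle hSsum
  push_cast at hle hSsum
  omega

/-- Exactly four irreducible characters do not vanish at `u`. -/
theorem Ctx.structure_thm (H : Ctx u) :
    ∃ θ θ' ρ : Cfsg.IrrCharacter G, θ ≠ θ' ∧ deg θ = 3 ∧ deg θ' = 3 ∧ deg ρ = 5 ∧
      val u θ = -1 ∧ val u θ' = -1 ∧ val u ρ = 1 ∧
      (∀ g, (θ : G → ℂ) g * (θ : G → ℂ) g = 1 + (θ : G → ℂ) g + (ρ : G → ℂ) g) ∧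
      mult ((θ : G → ℂ) * (ρ : G → ℂ)) θ' ≠ 0 ∧
      ∀ ψ, ψ ≠ trivChar G → ψ ≠ θ → ψ ≠ θ' → ψ ≠ ρ → val u ψ = 0 := by
  obtain ⟨θ, hθ, hr⟩ := H.exists_real
  obtain ⟨ρ, hρ, hρv, hsq, hρr⟩ := H.exists_rho hθ hr
  have hθ1 := IsT.ne_triv hθ
  set T := Finset.univ.filter fun ψ : Cfsg.IrrCharacter G => IsT u ψ with hT
  have hθρ : θ ≠ ρ := ne_of_deg (by rw [hρ, hθ.1]; omega)
  have hρ1 : ρ ≠ trivChar G := ne_of_deg (by rw [hρ, deg_triv]; omega)
  have hin : ∀ ψ, IsT u ψ → mult ((θ : G → ℂ) * (ρ : G → ℂ)) ψ = 1 := by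
    intro ψ hψ
    have hψr := H.real_of_real hθ hr hψ
    have e : mult ((θ : G → ℂ) * (ψ : G → ℂ)) ρ = 1 := by
      rcases eq_or_ne θ ψ with e | e
      · subst e
        apply mult_eq_of_inner
        have e' : (θ : G → ℂ) * (θ : G → ℂ) = (trivChar G : G → ℂ) + (θ : G → ℂ) + (ρ : G → ℂ) :=
          funext fun g => by simp [hsq g]
        rw [e', classInner_add_left, classInner_add_left, classInner_irr_self,
          classInner_irr_of_ne (Ne.symm hρ1), classInner_irr_of_ne hθρ]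
        simp
      · obtain ⟨ρ', hρ', -, hsq', -⟩ := H.exists_rho hψ hψr
        exact (H.pair hθ hψ hr hψr e hρ hρ' hsq hsq').2
    apply mult_eq_of_inner
    rw [← e, cast_mult (isChar_prod θ ψ)]
    simp only [Cfsg.classInner, Pi.mul_apply, conj_real hψr, hρr]
    congr 1
    exact Finset.sum_congr rfl fun g _ => by ring
  have hN : 3 * T.card ≤ 15 := by
    have h := tdeg_prod θ ρ
    rw [show deg θ = 3 from hθ.1, hρ] at h
    refine le_trans ?_ (le_of_eq h)
    refine le_trans (le_of_eq ?_) (Finset.sum_le_sum_of_subset (Finset.subset_univ T))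
    rw [Finset.sum_congr rfl (g := fun _ => 3) (fun ψ hψ => by
      rw [hT, Finset.mem_filter] at hψ
      rw [hin ψ hψ.2, hψ.2.1]), Finset.sum_const, smul_eq_mul, mul_comm]
  have hρT : ρ ∉ T := fun h => by
    rw [hT, Finset.mem_filter] at h
    have := h.2.1; omega
  have htriv : trivChar G ∉ insert ρ T := fun h => by
    rcases Finset.mem_insert.1 h with h | h
    · exact hρ1 h.symm
    · rw [hT, Finset.mem_filter] at h
      exact IsT.ne_triv h.2 rfl
  set R := (Finset.univ : Finset (Cfsg.IrrCharacter G)) \ insert (trivChar G) (insert ρ T) with hR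
  have hW : ∑ x ∈ R, (deg x : ℤ) * val u x = 3 * (T.card : ℤ) - 6 := by
    have h := H.sum_deg_val
    rw [← Finset.sum_sdiff (Finset.subset_univ (insert (trivChar G) (insert ρ T))), ← hR,
      Finset.sum_insert htriv, Finset.sum_insert hρT, deg_triv, val_triv, hρ, hρv,
      Finset.sum_congr (s₁ := T) rfl (g := fun _ => (-3 : ℤ)) (fun x hx => by
        rw [hT, Finset.mem_filter] at hx
        rw [hx.2.1, hx.2.2]; norm_num), Finset.sum_const, nsmul_eq_mul] at h
    push_cast at h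
    omega
  have hterm : ∀ x ∈ R, (deg x : ℤ) * val u x = 0 ∨ (deg x : ℤ) * val u x = 5 ∨ 12 ≤ (deg x : ℤ) * val u x := by
    intro x hx
    simp only [hR, Finset.mem_sdiff, Finset.mem_univ, true_and, Finset.mem_insert, not_or] at hx
    have hnn := H.val_nonneg hx.1 fun h => hx.2.2 (by simp [hT, h])
    rcases val_cases (u := u) hx.1 with e | e
    · left; rw [e, mul_zero]
    · rw [e] at hnn
      rcases (show deg x = 4 ∨ deg x = 5 ∨ 6 ≤ deg x by omega) with d | d | d
      · left; rw [e, d]; norm_num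
      · right; left; rw [e, d]; norm_num
      · right; right
        rw [e]
        have : (6 : ℤ) ≤ (deg x : ℤ) := by exact_mod_cast d
        nlinarith
  have hnonneg : ∀ x ∈ R, 0 ≤ (deg x : ℤ) * val u x := fun x hx => by
    rcases hterm x hx with h | h | h <;> omega
  have hall : ∀ x ∈ R, (deg x : ℤ) * val u x = 0 := by
    by_contra hc
    push Not at hc
    obtain ⟨a, ha, ha0⟩ := hc
    rw [← Finset.add_sum_erase _ _ ha] at hW
    have hN5 : (T.card : ℤ) ≤ 5 := by omega
    have hN1 : (1 : ℤ) ≤ T.card := by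
      have : 0 < T.card := Finset.card_pos.2 ⟨θ, by simp [hT, hθ]⟩
      omega
    by_cases hrest : ∀ x ∈ R.erase a, (deg x : ℤ) * val u x = 0
    · rw [Finset.sum_eq_zero hrest] at hW
      rcases hterm a ha with h | h | h <;> omega
    · push Not at hrest
      obtain ⟨b, hb, hb0⟩ := hrest
      have hb5 : 5 ≤ (deg b : ℤ) * val u b := by
        rcases hterm b (Finset.mem_of_mem_erase hb) with h | h | h <;> omega
      have hle := Finset.single_le_sum (f := fun x => (deg x : ℤ) * val u x)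
        (fun x hx => hnonneg x (Finset.mem_of_mem_erase hx)) hb
      rcases hterm a ha with h | h | h <;> omega
  rw [Finset.sum_eq_zero hall] at hW
  have hN2 : T.card = 2 := by omega
  obtain ⟨a, b, hab, hTab⟩ := Finset.card_eq_two.1 hN2
  have hθT : θ ∈ T := by simp [hT, hθ]
  rw [hTab] at hθT
  obtain ⟨θ', hne, hT'⟩ : ∃ θ', θ ≠ θ' ∧ T = {θ, θ'} := by
    rcases Finset.mem_insert.1 hθT with e | e
    · exact ⟨b, e ▸ hab, e ▸ hTab⟩
    · rw [Finset.mem_singleton] at e
      exact ⟨a, e ▸ hab.symm, by rw [hTab, e, Finset.pair_comm]⟩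
  have hθ' : IsT u θ' := by
    have : θ' ∈ T := by rw [hT']; simp
    simpa [hT] using this
  refine ⟨θ, θ', ρ, hne, hθ.1, hθ'.1, hρ, hθ.2, hθ'.2, hρv, hsq, by rw [hin θ' hθ']; omega,
    fun ψ h1 h2 h3 h4 => ?_⟩
  have hψ : ψ ∈ R := by
    simp [hR, h1, h4, hT', h2, h3]
  rcases mul_eq_zero.1 (hall ψ hψ) with h | h
  · exact absurd (by exact_mod_cast h) (charDegree_pos ψ).ne'
  · exact h

end CfsgLib.Char.MinusFour
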