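import Cfsg.Agent.Lib.Char.MinusFour.Eigen
import Mathlib.RingTheory.RootsOfUnity.AlgebraicallyClosed
import Mathlib.GroupTheory.FiniteAbelian.Duality
import Mathlib.Analysis.Complex.Polynomial.Basic

/-!
# Groups with `χ(1) - χ(u) = 4` or `χ(u) = 0`: integral bookkeeping

The values at `u` are integers `val u χ`; constituents of a character are handled as integer
multiplicity functions.
-/

set_option autoImplicit false
set_option linter.all false

open scoped Classical ComplexConjugate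

namespace CfsgLib.Char.MinusFour

open Module CfsgLib.Char CfsgLib.CharDegree

variable {G : Type*} [Group G] [Fintype G] {u : G}

/-- The hypothesis. -/
structure Ctx (u : G) : Prop where
  ne : u ≠ 1
  hyp : ∀ χ : Cfsg.IrrCharacter G, χ ≠ trivChar G →
    (χ : G → ℂ) 1 - (χ : G → ℂ) u = 4 ∨ (χ : G → ℂ) u = 0

/-- The value at `u`, as an integer. -/
noncomputable def val (u : G) (χ : Cfsg.IrrCharacter G) : ℤ :=
  if (χ : G → ℂ) u = 0 then 0 else if χ = trivChar G then 1 else (deg χ : ℤ) - 4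

/-- Degree three and value `-1`. -/
def IsT (u : G) (χ : Cfsg.IrrCharacter G) : Prop := deg χ = 3 ∧ val u χ = -1

theorem val_triv : val u (trivChar G) = 1 := by simp [val]

theorem deg_triv : deg (trivChar G) = 1 := charDegree_eq_of_apply_one (by simp)

theorem Ctx.cast_val (H : Ctx u) (χ : Cfsg.IrrCharacter G) : (χ : G → ℂ) u = (val u χ : ℂ) := by
  unfold val
  split_ifs with h h'
  · simp [h]
  · simp [h']
  · push_cast
    rw [cast_irrDegree]
    rcases H.hyp χ h' with e | e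
    · linear_combination -e
    · exact absurd e h

theorem Ctx.perfect (H : Ctx u) : commutator G = ⊤ := by
  by_contra hne
  obtain ⟨a, ha⟩ : ∃ a : Abelianization G, a ≠ 1 := by
    by_contra h
    push Not at h
    exact hne ((Subgroup.eq_top_iff' _).2 fun g => (QuotientGroup.eq_one_iff g).1 (h (QuotientGroup.mk g)))
  haveI : Finite (Abelianization G) := Finite.of_surjective _ (QuotientGroup.mk'_surjective (commutator G))
  obtain ⟨φ, hφ⟩ := CommGroup.exists_apply_ne_one_of_hasEnoughRootsOfUnity (Abelianization G) ℂ ha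
  let l : G →* ℂˣ := φ.comp Abelianization.of
  let χ : Cfsg.IrrCharacter G := ⟨fun g => (l g : ℂ), isIrrCharacter_linear l⟩
  have hχ : χ ≠ trivChar G := by
    intro e
    obtain ⟨g, rfl⟩ := QuotientGroup.mk'_surjective (commutator G) a
    exact hφ (Units.ext (congrFun (congrArg Subtype.val e) g))
  have hn : ‖(χ : G → ℂ) u‖ = 1 := by
    refine Complex.norm_eq_one_of_pow_eq_one (n := orderOf u) ?_ (orderOf_pos u).ne'
    show ((l u : ℂˣ) : ℂ) ^ orderOf u = 1
    rw [← Units.val_pow_eq_pow_val, ← map_pow, pow_orderOf_eq_one, map_one, Units.val_one]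
  rcases H.hyp χ hχ with e | e
  · have e' : (χ : G → ℂ) u = -3 := by
      have h1 : (χ : G → ℂ) 1 = 1 := by show ((l 1 : ℂˣ) : ℂ) = 1; simp
      rw [h1] at e
      linear_combination -e
    rw [e'] at hn; norm_num at hn
  · rw [e, norm_zero] at hn; exact zero_ne_one hn

theorem Ctx.two_le (H : Ctx u) {χ : Cfsg.IrrCharacter G} (h : χ ≠ trivChar G) : 2 ≤ deg χ := by
  rcases Nat.lt_or_ge (deg χ) 2 with hlt | hge
  · exfalso
    have h0 : 0 < deg χ := charDegree_pos χ
    have h1 : deg χ = 1 := by omega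
    refine h (Subtype.ext (funext fun g => ?_))
    rw [le_ker_of_degree_one χ h1 (by rw [H.perfect]; exact Subgroup.mem_top g),
      (charDegree_eq_one_iff χ).1 h1, trivChar_apply]
  · exact hge

theorem val_cases {χ : Cfsg.IrrCharacter G} (h : χ ≠ trivChar G) :
    val u χ = 0 ∨ val u χ = (deg χ : ℤ) - 4 := by
  unfold val; rw [if_neg h]; split_ifs <;> simp

theorem IsT.ne_triv {χ : Cfsg.IrrCharacter G} (h : IsT u χ) : χ ≠ trivChar G := fun e => by
  have := h.1; rw [e, deg_triv] at this; omega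

variable [Fintype (Cfsg.IrrCharacter G)]

/-- `∑ χ(1) χ(u) = 0`. -/
theorem Ctx.sum_deg_val (H : Ctx u) :
    ∑ χ : Cfsg.IrrCharacter G, (deg χ : ℤ) * val u χ = 0 := by
  have h := sum_degree_mul_apply_of_ne_one (G := G) H.ne
  have h' : ((∑ χ : Cfsg.IrrCharacter G, (deg χ : ℤ) * val u χ : ℤ) : ℂ) = ((0 : ℤ) : ℂ) := by
    rw [Int.cast_zero, ← h]
    push_cast
    exact Finset.sum_congr rfl fun χ _ => by rw [← H.cast_val, cast_irrDegree]
  exact_mod_cast h'

/-- Total degree of a multiplicity function. -/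
noncomputable def tdeg (f : Cfsg.IrrCharacter G → ℕ) : ℕ := ∑ ψ, f ψ * deg ψ

/-- Total value at `u` of a multiplicity function. -/
noncomputable def tval (u : G) (f : Cfsg.IrrCharacter G → ℕ) : ℤ := ∑ ψ, (f ψ : ℤ) * val u ψ

theorem le_tdeg (f : Cfsg.IrrCharacter G → ℕ) (ψ : Cfsg.IrrCharacter G) : f ψ * deg ψ ≤ tdeg f :=
  Finset.single_le_sum (f := fun φ => f φ * deg φ) (fun _ _ => Nat.zero_le _) (Finset.mem_univ ψ)

theorem tdeg_mult {Φ : G → ℂ} (h : Cfsg.IsCharacter G Φ) {D : ℕ} (hD : Φ 1 = D) :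
    tdeg (mult Φ) = D := by
  have : ((tdeg (mult Φ) : ℕ) : ℂ) = (D : ℂ) := by
    rw [← hD, eq_sum_mult h 1]
    simp [tdeg, cast_irrDegree]
  exact_mod_cast this

theorem Ctx.tval_mult (H : Ctx u) {Φ : G → ℂ} (h : Cfsg.IsCharacter G Φ) {V : ℤ} (hV : Φ u = V) :
    tval u (mult Φ) = V := by
  have : ((tval u (mult Φ) : ℤ) : ℂ) = (V : ℂ) := by
    rw [← hV, eq_sum_mult h u]
    unfold tval
    push_cast
    exact Finset.sum_congr rfl fun ψ _ => by rw [H.cast_val]
  exact_mod_cast this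

theorem tdeg_prod (χ ψ : Cfsg.IrrCharacter G) :
    tdeg (mult ((χ : G → ℂ) * (ψ : G → ℂ))) = deg χ * deg ψ :=
  tdeg_mult (isChar_prod χ ψ) (by simp [cast_irrDegree])

theorem Ctx.tval_prod (H : Ctx u) (χ ψ : Cfsg.IrrCharacter G) :
    tval u (mult ((χ : G → ℂ) * (ψ : G → ℂ))) = val u χ * val u ψ :=
  H.tval_mult (isChar_prod χ ψ) (by simp [H.cast_val])

/-- Remove one constituent. -/
noncomputable def remove (f : Cfsg.IrrCharacter G → ℕ) (a : Cfsg.IrrCharacter G) :
    Cfsg.IrrCharacter G → ℕ := Function.update f a (f a - 1)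

theorem remove_self (f : Cfsg.IrrCharacter G → ℕ) (a : Cfsg.IrrCharacter G) :
    remove f a a = f a - 1 := by simp [remove]

theorem remove_of_ne (f : Cfsg.IrrCharacter G → ℕ) {a ψ : Cfsg.IrrCharacter G} (h : ψ ≠ a) :
    remove f a ψ = f ψ := by simp [remove, h]

theorem remove_le (f : Cfsg.IrrCharacter G → ℕ) (a ψ : Cfsg.IrrCharacter G) : remove f a ψ ≤ f ψ := by
  by_cases h : ψ = a
  · subst h; rw [remove_self]; omega
  · rw [remove_of_ne f h]

theorem tdeg_remove {f : Cfsg.IrrCharacter G → ℕ} {a : Cfsg.IrrCharacter G} (h : f a ≠ 0) :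
    tdeg f = tdeg (remove f a) + deg a := by
  unfold tdeg
  rw [← Finset.add_sum_erase _ _ (Finset.mem_univ a), ← Finset.add_sum_erase _ _ (Finset.mem_univ a),
    remove_self, Finset.sum_congr rfl fun ψ hψ => by rw [← remove_of_ne f (Finset.ne_of_mem_erase hψ)]]
  obtain ⟨k, hk⟩ : ∃ k, f a = k + 1 := ⟨f a - 1, by omega⟩
  rw [hk, Nat.add_sub_cancel]
  ring

theorem tval_remove {f : Cfsg.IrrCharacter G → ℕ} {a : Cfsg.IrrCharacter G} (h : f a ≠ 0) :
    tval u f = tval u (remove f a) + val u a := by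
  unfold tval
  rw [← Finset.add_sum_erase _ _ (Finset.mem_univ a), ← Finset.add_sum_erase _ _ (Finset.mem_univ a),
    remove_self, Finset.sum_congr rfl fun ψ hψ => by rw [← remove_of_ne f (Finset.ne_of_mem_erase hψ)]]
  obtain ⟨k, hk⟩ : ∃ k, f a = k + 1 := ⟨f a - 1, by omega⟩
  rw [hk, Nat.add_sub_cancel]
  push_cast
  ring

theorem Ctx.eq_zero_of_tdeg (H : Ctx u) {f : Cfsg.IrrCharacter G → ℕ} (h0 : f (trivChar G) = 0)
    (hD : tdeg f ≤ 1) (ψ : Cfsg.IrrCharacter G) : f ψ = 0 := by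
  by_contra h
  have h1 : ψ ≠ trivChar G := fun e => h (e ▸ h0)
  have := H.two_le h1
  have := le_tdeg f ψ
  have : 1 * 2 ≤ f ψ * deg ψ := Nat.mul_le_mul (by omega) (by omega)
  omega

theorem tval_of_zero {f : Cfsg.IrrCharacter G → ℕ} (h : ∀ ψ, f ψ = 0) : tval u f = 0 := by
  simp [tval, h]

theorem tdeg_of_zero {f : Cfsg.IrrCharacter G → ℕ} (h : ∀ ψ, f ψ = 0) : tdeg f = 0 := by
  simp [tdeg, h]

/-- A positive total value needs a constituent of degree at least five. -/
theorem exists_pos {f : Cfsg.IrrCharacter G → ℕ} (h0 : f (trivChar G) = 0) (hV : 0 < tval u f) :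
    ∃ ψ, f ψ ≠ 0 ∧ ψ ≠ trivChar G ∧ 5 ≤ deg ψ ∧ val u ψ = (deg ψ : ℤ) - 4 := by
  by_contra hc
  push Not at hc
  refine absurd hV (not_lt.2 (Finset.sum_nonpos fun ψ _ => ?_))
  by_cases hf : f ψ = 0
  · simp [hf]
  · have h1 : ψ ≠ trivChar G := fun e => hf (e ▸ h0)
    refine mul_nonpos_of_nonneg_of_nonpos (Int.natCast_nonneg _) ?_
    rcases val_cases (u := u) h1 with e | e
    · omega
    · rcases Nat.lt_or_ge (deg ψ) 5 with h5 | h5
      · omega
      · exact absurd e (hc ψ hf h1 h5)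

/-- Degree two gives the value zero. -/
theorem Ctx.val_two (H : Ctx u) {ξ : Cfsg.IrrCharacter G} (h2 : deg ξ = 2) : val u ξ = 0 := by
  have hne : ξ ≠ trivChar G := fun e => by rw [e, deg_triv] at h2; omega
  rcases val_cases (u := u) hne with e | e
  · exact e
  · exfalso
    set f := mult ((ξ : G → ℂ) * (conjIrr ξ : G → ℂ))
    have hf1 : f (trivChar G) = 1 := by simp [f, mult_prod_triv]
    have hd : deg (conjIrr ξ) = 2 := by
      rw [← h2]; simp [deg, Cfsg.charDegree]
    have hv : val u (conjIrr ξ) = -2 := by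
      have h := H.cast_val (conjIrr ξ)
      rw [conjIrr_apply, H.cast_val ξ, map_intCast, Int.cast_inj] at h
      omega
    have hD : tdeg f = 4 := by simp [f, tdeg_prod, h2, hd]
    have hV : tval u f = 4 := by
      simp only [f, H.tval_prod, hv, e, h2]; norm_num
    have h0 : f (trivChar G) ≠ 0 := by omega
    have hD' := tdeg_remove h0
    have hV' := tval_remove (u := u) h0
    rw [deg_triv] at hD'; rw [val_triv] at hV'
    obtain ⟨ψ, hψ, -, hψ5, -⟩ := exists_pos (u := u) (f := remove f (trivChar G))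
      (by rw [remove_self]; omega) (by omega)
    have := le_tdeg (remove f (trivChar G)) ψ
    have : 1 * 5 ≤ remove f (trivChar G) ψ * deg ψ := Nat.mul_le_mul (by omega) hψ5
    omega

theorem Ctx.val_nonneg (H : Ctx u) {ψ : Cfsg.IrrCharacter G} (h : ψ ≠ trivChar G)
    (hT : ¬ IsT u ψ) : 0 ≤ val u ψ := by
  rcases val_cases (u := u) h with e | e
  · omega
  · have h2 := H.two_le h
    rcases Nat.lt_or_ge (deg ψ) 4 with h4 | h4
    · rcases (show deg ψ = 2 ∨ deg ψ = 3 by omega) with d | d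
      · rw [H.val_two d]
      · exact absurd ⟨d, by omega⟩ hT
    · omega

/-- A negative total value needs a constituent of degree three and value `-1`. -/
theorem Ctx.exists_neg (H : Ctx u) {f : Cfsg.IrrCharacter G → ℕ} (hV : tval u f < 0) :
    ∃ ψ, f ψ ≠ 0 ∧ IsT u ψ := by
  by_contra hc
  push Not at hc
  refine absurd hV (not_lt.2 (Finset.sum_nonneg fun ψ _ => ?_))
  by_cases hf : f ψ = 0
  · simp [hf]
  · refine mul_nonneg (Int.natCast_nonneg _) ?_
    by_cases h1 : ψ = trivChar G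
    · rw [h1, val_triv]; norm_num
    · exact H.val_nonneg h1 (hc ψ hf)

theorem exists_pos_le {f : Cfsg.IrrCharacter G → ℕ} (h0 : f (trivChar G) = 0) (hV : 0 < tval u f) :
    ∃ ψ, f ψ ≠ 0 ∧ 5 ≤ deg ψ ∧ deg ψ ≤ tdeg f ∧ val u ψ = (deg ψ : ℤ) - 4 := by
  obtain ⟨ψ, h1, -, h5, hv⟩ := exists_pos h0 hV
  refine ⟨ψ, h1, h5, le_trans ?_ (le_tdeg f ψ), hv⟩
  exact Nat.le_mul_of_pos_left _ (by omega)

end CfsgLib.Char.MinusFour
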